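import Cfsg.Agent.Components.StdAltEight.Setting

/-!
A conjugate of `z` commuting with `z` and different from `z` lies in `L`; the centraliser of `L` is then a group
of twice odd order.
-/

set_option autoImplicit false
set_option linter.unusedSectionVars false

namespace Cfsg.Lib.StdAltEight

open Subgroup Equiv

universe u

variable {G : Type u} [Group G] [Finite G]

theorem conj_mul_conj (g a b : G) : g * a * g⁻¹ * (g * b * g⁻¹) = g * (a * b) * g⁻¹ := by group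

theorem commute_conj {g a b : G} (h : Commute a b) : Commute (g * a * g⁻¹) (g * b * g⁻¹) :=
  (Commute.conj_iff g).2 h

theorem eq_one_of_pow_coprime {H : Type*} [Group H] {a : H} {m n : ℕ} (h : Nat.Coprime m n) (hm : a ^ m = 1)
    (hn : a ^ n = 1) : a = 1 := by
  have := pow_gcd_eq_one.2 ⟨hm, hn⟩
  rwa [Nat.Coprime.gcd_eq_one h, pow_one] at this

namespace Ctx

variable (X : Ctx G)

/-- The centraliser of `z`. -/
abbrev N : Subgroup G := centralizer ({X.z} : Set G)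

/-- The centraliser of `L`. -/
abbrev K : Subgroup G := centralizer (X.L : Set G)

/-- The action, extended by `1`. -/
noncomputable def ψ (x : G) : P8 := by
  classical
  exact if h : x ∈ X.N then X.φ ⟨x, h⟩ else 1

theorem ψ_of_mem {x : G} (h : x ∈ X.N) : X.ψ x = X.φ ⟨x, h⟩ := dif_pos h

theorem mem_N_iff {x : G} : x ∈ X.N ↔ Commute x X.z := mem_centralizer_singleton_iff

theorem L_le {x : G} (h : x ∈ X.L) : x ∈ X.N := X.mem_N_iff.2 (X.zcomm x h)

theorem z_mem_K : X.z ∈ X.K := mem_centralizer_iff.2 fun x hx => X.zcomm x hx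

theorem K_le {x : G} (h : x ∈ X.K) : x ∈ X.N := X.mem_N_iff.2 (mem_centralizer_iff.1 h X.z X.zL).symm

theorem commK {x k : G} (hx : x ∈ X.L) (hk : k ∈ X.K) : Commute x k := mem_centralizer_iff.1 hk x hx

theorem ψ_mul {x y : G} (hx : x ∈ X.N) (hy : y ∈ X.N) : X.ψ (x * y) = X.ψ x * X.ψ y := by
  rw [X.ψ_of_mem hx, X.ψ_of_mem hy, X.ψ_of_mem (mul_mem hx hy), ← map_mul]
  rfl

theorem ψ_inv {x : G} (hx : x ∈ X.N) : X.ψ x⁻¹ = (X.ψ x)⁻¹ := by
  rw [X.ψ_of_mem hx, X.ψ_of_mem (inv_mem hx), ← map_inv]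
  rfl

theorem ψ_one : X.ψ 1 = 1 := by
  rw [X.ψ_of_mem (one_mem _)]
  exact map_one X.φ

theorem ψ_pow {x : G} (hx : x ∈ X.N) (n : ℕ) : X.ψ (x ^ n) = X.ψ x ^ n := by
  rw [X.ψ_of_mem hx, X.ψ_of_mem (pow_mem hx n), ← map_pow]
  rfl

theorem ψ_conj {g x : G} (hg : g ∈ X.N) (hx : x ∈ X.N) : X.ψ (g * x * g⁻¹) = X.ψ g * X.ψ x * (X.ψ g)⁻¹ := by
  rw [X.ψ_mul (mul_mem hg hx) (inv_mem hg), X.ψ_mul hg hx, X.ψ_inv hg]

theorem ψ_eq_one {x : G} (hx : x ∈ X.N) : X.ψ x = 1 ↔ x ∈ X.K := by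
  rw [X.ψ_of_mem hx]
  exact X.hker _

theorem ψ_K {x : G} (hx : x ∈ X.K) : X.ψ x = 1 := (X.ψ_eq_one (X.K_le hx)).2 hx

theorem ψ_z : X.ψ X.z = 1 := X.ψ_K X.z_mem_K

theorem ψ_commute {x y : G} (hx : x ∈ X.N) (hy : y ∈ X.N) (h : Commute x y) : Commute (X.ψ x) (X.ψ y) := by
  show X.ψ x * X.ψ y = X.ψ y * X.ψ x
  rw [← X.ψ_mul hx hy, ← X.ψ_mul hy hx, h.eq]

theorem even' {x : G} (hx : x ∈ X.L) : Perm.sign (X.ψ x) = 1 := by
  rw [X.ψ_of_mem (X.L_le hx)]
  exact X.even _ hx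

theorem dbl' {x : G} (hx : x ∈ X.L) (h : IsConj r2 (X.ψ x)) : x * x = X.z := by
  rw [X.ψ_of_mem (X.L_le hx)] at h
  exact X.dbl ⟨x, X.L_le hx⟩ hx h

theorem exists_lift (p : P8) (hp : Perm.sign p = 1) : ∃ x ∈ X.L, X.ψ x = p := by
  obtain ⟨x, hx, he⟩ := X.surj p hp
  exact ⟨x, hx, by rw [X.ψ_of_mem x.2]; exact he⟩

theorem L_inter_K {x : G} (hx : x ∈ X.L) (hk : x ∈ X.K) : x = 1 ∨ x = X.z := X.centre x hx hk

theorem z_pow_odd {n : ℕ} (hn : Odd n) : X.z ^ n = X.z := by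
  obtain ⟨k, rfl⟩ := hn
  rw [pow_succ, pow_mul, pow_two, X.zsq, one_pow, one_mul]

/-- Lifts of odd order. -/
theorem exists_odd_lift {p : P8} {n : ℕ} (hn : Odd n) (hp : p ^ n = 1) : ∃ x ∈ X.L, x ^ n = 1 ∧ X.ψ x = p := by
  obtain ⟨w, hw, he⟩ := X.exists_lift p (sign_of_odd_order hn hp)
  have hk : w ^ n ∈ X.K := (X.ψ_eq_one (pow_mem (X.L_le hw) n)).1 (by rw [X.ψ_pow (X.L_le hw), he, hp])
  rcases X.L_inter_K (pow_mem hw n) hk with h | h
  · exact ⟨w, hw, h, he⟩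
  · refine ⟨w * X.z, mul_mem hw X.zL, ?_, by rw [X.ψ_mul (X.L_le hw) (X.L_le X.zL), he, X.ψ_z, mul_one]⟩
    rw [(Commute.mul_pow (X.zcomm w hw) n), h, X.z_pow_odd hn, X.zsq]

/-- An element of odd order of `L` commutes with `x ∈ N` as soon as the images commute. -/
theorem odd_commute {x w : G} (hx : x ∈ X.N) (hw : w ∈ X.L) {n : ℕ} (hn : Odd n) (hwn : w ^ n = 1)
    (hc : Commute (X.ψ x) (X.ψ w)) (hnorm : x * w * x⁻¹ ∈ X.L) : Commute x w := by
  have hwN := X.L_le hw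
  have hk : x * w * x⁻¹ * w⁻¹ ∈ X.K := (X.ψ_eq_one (mul_mem (X.L_le hnorm) (inv_mem hwN))).1 (by
    rw [X.ψ_mul (X.L_le hnorm) (inv_mem hwN), X.ψ_inv hwN, X.ψ_conj hx hwN, hc.eq]
    group)
  rcases X.L_inter_K (mul_mem hnorm (inv_mem hw)) hk with h | h
  · rw [mul_inv_eq_one, mul_inv_eq_iff_eq_mul] at h
    exact h
  · exfalso
    rw [mul_inv_eq_iff_eq_mul] at h
    have h1 : (x * w * x⁻¹) ^ n = 1 := by rw [conj_pow, hwn, mul_one, mul_inv_cancel]
    rw [h, (Commute.mul_pow (show Commute X.z w from (X.zcomm w hw).symm) n), hwn, mul_one, X.z_pow_odd hn] at h1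
    exact X.zne h1

theorem N_eq : X.N = normalizer (X.L : Set G) :=
  std_centralizer_eq X.std X.zsq X.zne X.zL X.z_mem_K X.centre

theorem conj_mem_L {x w : G} (hx : x ∈ X.N) (hw : w ∈ X.L) : x * w * x⁻¹ ∈ X.L :=
  (mem_normalizer_iff.1 (X.N_eq ▸ hx : x ∈ normalizer (X.L : Set G)) w).1 hw

theorem conj_mem_K {x w : G} (hx : x ∈ X.N) (hw : w ∈ X.K) : x * w * x⁻¹ ∈ X.K := by
  have hx' : x ∈ normalizer (X.K : Set G) := X.std.2.2.2 ▸ (X.N_eq ▸ hx : x ∈ normalizer (X.L : Set G))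
  exact (mem_normalizer_iff.1 hx' w).1 hw

/-- An element which centralises `z` and conjugates some involution of `K` into `K`. -/
theorem odd_of_mem_K_conj {g x : G} (hg : g ∉ X.N) (hx : x ∈ X.K) (hx' : g⁻¹ * x * g ∈ X.K) :
    Odd (orderOf x) := by
  have hgn : g ∉ normalizer (X.K : Set G) := by rw [← X.std.2.2.2, ← X.N_eq]; exact hg
  have hmem : x ∈ X.K ⊓ X.K.map (MulAut.conj g).toMonoidHom := ⟨hx, ⟨g⁻¹ * x * g, hx', by simp; group⟩⟩
  have h := orderOf_dvd_natCard (⟨x, hmem⟩ : ↥(X.K ⊓ X.K.map (MulAut.conj g).toMonoidHom))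
  rw [Subgroup.orderOf_mk] at h
  exact (X.std.2.1.2 g hgn).of_dvd_nat h

/-- `g` moves `z` to a different commuting conjugate. -/
def IsPair (g : G) : Prop := Commute (g * X.z * g⁻¹) X.z ∧ g * X.z * g⁻¹ ≠ X.z

variable {X}

theorem IsPair.symm {g : G} (h : X.IsPair g) : X.IsPair g⁻¹ := by
  refine ⟨?_, fun e => h.2 ?_⟩
  · have h1 := (commute_conj (g := g⁻¹) h.1).symm
    rw [show g⁻¹ * (g * X.z * g⁻¹) * g⁻¹⁻¹ = X.z by group] at h1
    exact h1
  · calc g * X.z * g⁻¹ = g * (g⁻¹ * X.z * g⁻¹⁻¹) * g⁻¹ := by rw [e]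
      _ = X.z := by group

theorem IsPair.not_mem {g : G} (h : X.IsPair g) : g ∉ X.N := fun hg =>
  h.2 (by rw [(X.mem_N_iff.1 hg).eq, mul_inv_cancel_right])

theorem IsPair.mem_N {g : G} (h : X.IsPair g) : g * X.z * g⁻¹ ∈ X.N := X.mem_N_iff.2 h.1

theorem IsPair.ψ_ne {g : G} (h : X.IsPair g) : X.ψ (g * X.z * g⁻¹) ≠ 1 := fun e => by
  have hk := (X.ψ_eq_one h.mem_N).1 e
  have hodd := X.odd_of_mem_K_conj h.not_mem hk (by
    rw [show g⁻¹ * (g * X.z * g⁻¹) * g = X.z by group]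
    exact X.z_mem_K)
  have ho : orderOf (g * X.z * g⁻¹) = 2 := orderOf_eq_prime
    (by rw [conj_pow, pow_two, X.zsq, mul_one, mul_inv_cancel]) (fun e1 => X.zne (conj_eq_one_iff.1 e1))
  rw [ho] at hodd
  exact absurd hodd (by decide)

theorem IsPair.ψ_sq {g : G} (h : X.IsPair g) : X.ψ (g * X.z * g⁻¹) * X.ψ (g * X.z * g⁻¹) = 1 := by
  rw [← X.ψ_mul h.mem_N h.mem_N, conj_mul_conj, X.zsq, mul_one, mul_inv_cancel, X.ψ_one]

/-- `z` is a product of two elements of odd order of `L` centralising the conjugate, up to taking a square. -/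
theorem IsPair.type {g : G} (h : X.IsPair g) : IsConj r4 (X.ψ (g * X.z * g⁻¹)) := by
  -- work with the conjugate by `g⁻¹`
  have h' := h.symm
  obtain ⟨a, b, ha, hb, hay, hby, hab⟩ := exists_pair h'.ψ_sq h'.ψ_ne
  obtain ⟨wa, hwa, hwa3, hea⟩ := X.exists_odd_lift (by decide : Odd 3) ha
  obtain ⟨wb, hwb, hwb3, heb⟩ := X.exists_odd_lift (by decide : Odd 3) hb
  set y := g⁻¹ * X.z * g⁻¹⁻¹ with hy
  have hca : Commute y wa := X.odd_commute h'.mem_N hwa (by decide : Odd 3) hwa3 (by rw [hea]; exact hay.symm)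
    (X.conj_mem_L h'.mem_N hwa)
  have hcb : Commute y wb := X.odd_commute h'.mem_N hwb (by decide : Odd 3) hwb3 (by rw [heb]; exact hby.symm)
    (X.conj_mem_L h'.mem_N hwb)
  have hsq : wa * wb * (wa * wb) = X.z := X.dbl' (mul_mem hwa hwb) (by
    rw [X.ψ_mul (X.L_le hwa) (X.L_le hwb), hea, heb]; exact hab)
  have hgy : g * y * g⁻¹ = X.z := by rw [hy]; group
  set u := X.ψ (g * X.z * g⁻¹) with hu
  refine isConj_r4_of_mem_closure h.ψ_sq h.ψ_ne ?_
  have hmap : ∀ w ∈ X.L, Commute y w → g * w * g⁻¹ ∈ X.N := fun w _ hw => X.mem_N_iff.2 (by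
    rw [← hgy]
    exact commute_conj hw.symm)
  have hgen : ∀ w ∈ X.L, Commute y w → w ^ 3 = 1 →
      X.ψ (g * w * g⁻¹) ∈ closure {p : P8 | Commute p u ∧ ∃ n, Odd n ∧ p ^ n = 1} := fun w hw hc h3 => by
    refine subset_closure ⟨X.ψ_commute (hmap w hw hc) h.mem_N (commute_conj (X.zcomm w hw)), 3, by decide, ?_⟩
    rw [← X.ψ_pow (hmap w hw hc), conj_pow, h3, mul_one, mul_inv_cancel, X.ψ_one]
  have e : g * X.z * g⁻¹ = g * wa * g⁻¹ * (g * wb * g⁻¹) * (g * wa * g⁻¹ * (g * wb * g⁻¹)) := by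
    rw [conj_mul_conj, conj_mul_conj, hsq]
  have na := hmap wa hwa hca
  have nb := hmap wb hwb hcb
  have hval : X.ψ (g * wa * g⁻¹) * X.ψ (g * wb * g⁻¹) * (X.ψ (g * wa * g⁻¹) * X.ψ (g * wb * g⁻¹)) = u := by
    rw [← X.ψ_mul na nb, ← X.ψ_mul (mul_mem na nb) (mul_mem na nb), ← e]
  have hmem := mul_mem (mul_mem (hgen wa hwa hca hwa3) (hgen wb hwb hcb hwb3))
    (mul_mem (hgen wa hwa hca hwa3) (hgen wb hwb hcb hwb3))
  rwa [hval] at hmem

/-- The part of `K` centralising the conjugate acts as `⟨u⟩` in the other point of view. -/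
theorem IsPair.R_image {g : G} (h : X.IsPair g) {k : G} (hk : k ∈ X.K) (hky : Commute k (g * X.z * g⁻¹)) :
    X.ψ (g⁻¹ * k * g) = 1 ∨ X.ψ (g⁻¹ * k * g) = X.ψ (g⁻¹ * X.z * g) := by
  set y := g * X.z * g⁻¹ with hy
  have hgg : ∀ x : G, g⁻¹ * x * g = g⁻¹ * x * g⁻¹⁻¹ := fun x => by rw [inv_inv]
  set u := X.ψ (g⁻¹ * X.z * g) with hu
  have hu4 : IsConj r4 u := by rw [hu, hgg]; exact h.symm.type
  -- `R`, its image `P`, and the centraliser `D`
  let D : Subgroup G := X.N ⊓ centralizer ({y} : Set G)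
  let R : Subgroup G := X.K ⊓ centralizer ({y} : Set G)
  let f : ↥D →* ↥(centralizer ({u} : Set P8)) :=
    { toFun := fun x => ⟨X.ψ (g⁻¹ * x * g), by
        have hxN : g⁻¹ * (x : G) * g ∈ X.N := by
          rw [X.mem_N_iff, hgg]
          have := commute_conj (g := g⁻¹) (mem_centralizer_singleton_iff.1 x.2.2)
          rwa [show g⁻¹ * y * g⁻¹⁻¹ = X.z by rw [hy]; group] at this
        have hzN : g⁻¹ * X.z * g ∈ X.N := by rw [hgg]; exact h.symm.mem_N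
        rw [mem_centralizer_singleton_iff]
        exact X.ψ_commute hxN hzN (by rw [hgg, hgg]; exact commute_conj (X.mem_N_iff.1 x.2.1))⟩
      map_one' := Subtype.ext (by
        show X.ψ (g⁻¹ * ((1 : ↥D) : G) * g) = 1
        rw [coe_one, mul_one, inv_mul_cancel, X.ψ_one])
      map_mul' := fun a b => Subtype.ext (by
        show X.ψ (g⁻¹ * ((a * b : ↥D) : G) * g) = X.ψ (g⁻¹ * a * g) * X.ψ (g⁻¹ * b * g)
        have hm : ∀ x : ↥D, g⁻¹ * (x : G) * g ∈ X.N := fun x => by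
          rw [X.mem_N_iff, hgg]
          have := commute_conj (g := g⁻¹) (mem_centralizer_singleton_iff.1 x.2.2)
          rwa [show g⁻¹ * y * g⁻¹⁻¹ = X.z by rw [hy]; group] at this
        rw [← X.ψ_mul (hm a) (hm b), coe_mul]
        congr 1
        group) }
  have hRD : R ≤ D := inf_le_inf_right _ fun x hx => X.K_le hx
  haveI : (R.subgroupOf D).Normal := ⟨fun a ha d => by
    simp only [mem_subgroupOf, R, mem_inf] at ha ⊢
    refine ⟨X.conj_mem_K d.2.1 ha.1, ?_⟩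
    have : ((d * a * d⁻¹ : ↥D) : G) ∈ D := (d * a * d⁻¹).2
    exact this.2⟩
  let P : Subgroup ↥f.range := (R.subgroupOf D).map f.rangeRestrict
  haveI : P.Normal := Subgroup.Normal.map inferInstance _ f.rangeRestrict_surjective
  obtain ⟨a, a', ha, ha', hau, ha'u, hcent⟩ := exists_gens hu4
  -- split an element of order three of `C(u)` as a product
  have hsplit : ∀ p : P8, p ^ 3 = 1 → Commute p u → ∃ (w : G) (c : ↥D), w ∈ X.L ∧ w ^ 3 = 1 ∧ Commute w y ∧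
      (c : G) ∈ R ∧ c ^ 3 = 1 ∧ g⁻¹ * w * g ∈ X.N ∧ p = X.ψ (g⁻¹ * w * g) * (f c : P8) := by
    intro p hp hpu
    obtain ⟨w', hw', hw'3, hew'⟩ := X.exists_odd_lift (by decide : Odd 3) hp
    have hc' : Commute (g⁻¹ * X.z * g) w' := X.odd_commute (by rw [hgg]; exact h.symm.mem_N) hw'
      (by decide : Odd 3) hw'3 (by rw [hew']; exact hpu.symm) (X.conj_mem_L (by rw [hgg]; exact h.symm.mem_N) hw')
    set x := g * w' * g⁻¹ with hx
    have hxz : Commute x X.z := by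
      have := commute_conj (g := g) hc'.symm
      rwa [show g * (g⁻¹ * X.z * g) * g⁻¹ = X.z by group] at this
    have hxy : Commute x y := commute_conj (X.zcomm w' hw')
    have hxN : x ∈ X.N := X.mem_N_iff.2 hxz
    have hx3 : x ^ 3 = 1 := by rw [hx, conj_pow, hw'3, mul_one, mul_inv_cancel]
    obtain ⟨w, hw, hw3, hew⟩ := X.exists_odd_lift (p := X.ψ x) (by decide : Odd 3)
      (by rw [← X.ψ_pow hxN, hx3, X.ψ_one])
    have hwy : Commute w y := (X.odd_commute h.mem_N hw (by decide : Odd 3) hw3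
      (by rw [hew]; exact (X.ψ_commute hxN h.mem_N hxy).symm) (X.conj_mem_L h.mem_N hw)).symm
    have hck : w⁻¹ * x ∈ X.K := (X.ψ_eq_one (mul_mem (inv_mem (X.L_le hw)) hxN)).1 (by
      rw [X.ψ_mul (inv_mem (X.L_le hw)) hxN, X.ψ_inv (X.L_le hw), hew, inv_mul_cancel])
    have hcy : Commute (w⁻¹ * x) y := hwy.inv_left.mul_left hxy
    have hwx : Commute w x := by
      have := (X.commK hw hck)
      have e : x = w * (w⁻¹ * x) := by group
      rw [e]
      exact (Commute.refl w).mul_right this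
    have hcD : w⁻¹ * x ∈ D := ⟨X.K_le hck, mem_centralizer_singleton_iff.2 hcy⟩
    have hwN : g⁻¹ * w * g ∈ X.N := by
      rw [X.mem_N_iff, hgg]
      have := commute_conj (g := g⁻¹) hwy
      rwa [show g⁻¹ * y * g⁻¹⁻¹ = X.z by rw [hy]; group] at this
    refine ⟨w, ⟨w⁻¹ * x, hcD⟩, hw, hw3, hwy, ⟨hck, mem_centralizer_singleton_iff.2 hcy⟩, Subtype.ext ?_, hwN, ?_⟩
    · show (w⁻¹ * x) ^ 3 = 1
      rw [hwx.inv_left.mul_pow, inv_pow, hw3, hx3, inv_one, one_mul]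
    · show p = X.ψ (g⁻¹ * w * g) * X.ψ (g⁻¹ * (w⁻¹ * x) * g)
      have hcN : g⁻¹ * (w⁻¹ * x) * g ∈ X.N := by
        rw [show g⁻¹ * (w⁻¹ * x) * g = (g⁻¹ * w * g)⁻¹ * w' by rw [hx]; group]
        exact mul_mem (inv_mem hwN) (X.L_le hw')
      rw [← X.ψ_mul hwN hcN, show g⁻¹ * w * g * (g⁻¹ * (w⁻¹ * x) * g) = w' by rw [hx]; group, hew']
  obtain ⟨wa, ca, hwa, hwa3, hway, hca, hca3, hwaN, hea⟩ := hsplit a ha hau
  obtain ⟨wb, cb, hwb, hwb3, hwby, hcb, hcb3, hwbN, heb⟩ := hsplit a' ha' ha'u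
  have hkD : k ∈ D := ⟨X.K_le hk, mem_centralizer_singleton_iff.2 hky⟩
  have hcommP : ∀ w ∈ X.L, g⁻¹ * w * g ∈ X.N → ∀ c : ↥D, (c : G) ∈ R → Commute (X.ψ (g⁻¹ * w * g)) (f c : P8) := by
    intro w hw hwN c hc
    have hcN : g⁻¹ * (c : G) * g ∈ X.N := by
      rw [X.mem_N_iff, hgg]
      have := commute_conj (g := g⁻¹) (mem_centralizer_singleton_iff.1 c.2.2)
      rwa [show g⁻¹ * y * g⁻¹⁻¹ = X.z by rw [hy]; group] at this
    exact X.ψ_commute hwN hcN (by rw [hgg, hgg]; exact commute_conj (X.commK hw hc.1))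
  -- the images in `P` of elements of order three are trivial
  have htriv : ∀ c : ↥D, (c : G) ∈ R → c ^ 3 = 1 → (f c : P8) = 1 := by
    intro c hc hc3
    by_contra hne
    have hcP : f.rangeRestrict c ∈ P := ⟨c, hc, rfl⟩
    have hord : orderOf (f.rangeRestrict c) = 3 := by
      haveI : Fact (Nat.Prime 3) := ⟨Nat.prime_three⟩
      refine orderOf_eq_prime (by rw [← map_pow, hc3, map_one]) fun e => hne ?_
      exact congrArg (fun t : ↥f.range => ((t : ↥(centralizer ({u} : Set P8))) : P8)) e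
    have h3P : 3 ∣ Nat.card P := by
      have := orderOf_dvd_natCard (⟨_, hcP⟩ : P)
      rwa [Subgroup.orderOf_mk, hord] at this
    have hall : ∀ q : ↥f.range, q ^ 3 = 1 → q ∈ P := by
      intro q hq
      have hidx : ¬ 3 ∣ P.index := fun h3i => not_nine_dvd_centralizer hu4 (by
        have h9 : 3 * 3 ∣ Nat.card P * P.index := Nat.mul_dvd_mul h3P h3i
        rw [Subgroup.card_mul_index] at h9
        exact (show 9 ∣ Nat.card ↥f.range from h9).trans (Subgroup.card_subgroup_dvd_card _))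
      rw [← QuotientGroup.eq_one_iff (N := P)]
      refine eq_one_of_pow_coprime ((Nat.prime_three.coprime_iff_not_dvd).2 hidx)
        (by rw [← QuotientGroup.mk_pow, hq, QuotientGroup.mk_one]) ?_
      rw [Subgroup.index]
      exact pow_card_eq_one'
    -- the parts from `L` centralise all elements of order three
    have hpr : ∀ p : P8, p ^ 3 = 1 → Commute p u → ∃ d : ↥D, (d : G) ∈ R ∧ (f d : P8) = p := by
      intro p hp hpu
      obtain ⟨w, cc, hw, hw3, hwy, hcc, hcc3, hwN, he⟩ := hsplit p hp hpu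
      have hwD : w ∈ D := ⟨X.L_le hw, mem_centralizer_singleton_iff.2 hwy⟩
      have hwf : f.rangeRestrict (⟨w, hwD⟩ * cc) ∈ P := hall _ (by
        apply Subtype.ext
        apply Subtype.ext
        show ((f (⟨w, hwD⟩ * cc) : P8)) ^ 3 = 1
        rw [map_mul]
        show (X.ψ (g⁻¹ * w * g) * (f cc : P8)) ^ 3 = 1
        rw [← he, hp])
      obtain ⟨d, hd, hde⟩ := hwf
      refine ⟨d, hd, ?_⟩
      have := congrArg (fun t : ↥f.range => ((t : ↥(centralizer ({u} : Set P8))) : P8)) hde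
      exact this.trans (by show ((f (⟨w, hwD⟩ * cc)) : P8) = p; rw [map_mul]; exact he.symm)
    obtain ⟨da, hda, hdae⟩ := hpr a ha hau
    obtain ⟨db, hdb, hdbe⟩ := hpr a' ha' ha'u
    -- so every element of odd order of `L ⊓ D` maps to `1`, against `z ↦ u`
    obtain ⟨p, q, hp, hq, hpy, hqy, hpq⟩ := exists_pair h.ψ_sq h.ψ_ne
    have hone : ∀ t : P8, t ^ 3 = 1 → Commute t (X.ψ y) → ∃ w ∈ X.L, g⁻¹ * w * g ∈ X.N ∧
        X.ψ w = t ∧ X.ψ (g⁻¹ * w * g) = 1 := by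
      intro t ht hty
      obtain ⟨w, hw, hw3, hew⟩ := X.exists_odd_lift (by decide : Odd 3) ht
      have hwy : Commute w y := (X.odd_commute h.mem_N hw (by decide : Odd 3) hw3
        (by rw [hew]; exact hty.symm) (X.conj_mem_L h.mem_N hw)).symm
      have hwN : g⁻¹ * w * g ∈ X.N := by
        rw [X.mem_N_iff, hgg]
        have := commute_conj (g := g⁻¹) hwy
        rwa [show g⁻¹ * y * g⁻¹⁻¹ = X.z by rw [hy]; group] at this
      refine ⟨w, hw, hwN, hew, ?_⟩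
      have c1 := hcommP w hw hwN da hda
      have c2 := hcommP w hw hwN db hdb
      rw [hdae] at c1; rw [hdbe] at c2
      have hp3 : X.ψ (g⁻¹ * w * g) ^ 3 = 1 := by
        rw [← X.ψ_pow hwN, hgg, conj_pow, hw3, mul_one, mul_inv_cancel, X.ψ_one]
      rcases hcent _ c1 c2 with e | e
      · exact e
      · rw [e] at hp3 ⊢
        exact eq_one_of_pow_coprime (m := 3) (n := 2) (by norm_num) hp3
          (by rw [pow_two, hu, hgg]; exact h.symm.ψ_sq)
    obtain ⟨w1, hw1, hw1N, hew1, he1⟩ := hone p hp hpy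
    obtain ⟨w2, hw2, hw2N, hew2, he2⟩ := hone q hq hqy
    have hsq : w1 * w2 * (w1 * w2) = X.z :=
      X.dbl' (mul_mem hw1 hw2) (by rw [X.ψ_mul (X.L_le hw1) (X.L_le hw2), hew1, hew2]; exact hpq)
    refine h.symm.ψ_ne ?_
    rw [← hgg, ← hsq, show g⁻¹ * (w1 * w2 * (w1 * w2)) * g =
      g⁻¹ * w1 * g * (g⁻¹ * w2 * g) * (g⁻¹ * w1 * g * (g⁻¹ * w2 * g)) by group,
      X.ψ_mul (mul_mem hw1N hw2N) (mul_mem hw1N hw2N), X.ψ_mul hw1N hw2N, he1, he2]
    simp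
  have h1 := hcommP wa hwa hwaN ⟨k, hkD⟩ ⟨hk, hkD.2⟩
  have h2 := hcommP wb hwb hwbN ⟨k, hkD⟩ ⟨hk, hkD.2⟩
  rw [htriv ca hca hca3, mul_one] at hea
  rw [htriv cb hcb hcb3, mul_one] at heb
  rw [← hea] at h1; rw [← heb] at h2
  exact hcent _ h1.symm h2.symm

/-- Elements of two-power order of `R` are trivial or `z`. -/
theorem IsPair.two_elem {g : G} (h : X.IsPair g) {k : G} (hk : k ∈ X.K) (hky : Commute k (g * X.z * g⁻¹)) {n : ℕ}
    (hn : k ^ (2 ^ n) = 1) : k = 1 ∨ k = X.z := by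
  have hgg : ∀ x : G, g⁻¹ * x * g = g⁻¹ * x * g⁻¹⁻¹ := fun x => by rw [inv_inv]
  have key : ∀ {j : G}, j ∈ X.K → Commute j (g * X.z * g⁻¹) → j ^ (2 ^ n) = 1 → X.ψ (g⁻¹ * j * g) = 1 → j = 1 := by
    intro j hj hjy hjn he
    have hjN : g⁻¹ * j * g ∈ X.N := by
      rw [X.mem_N_iff, hgg]
      have := commute_conj (g := g⁻¹) hjy
      rwa [show g⁻¹ * (g * X.z * g⁻¹) * g⁻¹⁻¹ = X.z by group] at this
    obtain ⟨m, hm⟩ := X.odd_of_mem_K_conj h.not_mem hj ((X.ψ_eq_one hjN).1 he)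
    exact eq_one_of_pow_coprime (m := orderOf j) (n := 2 ^ n)
      (Nat.Coprime.pow_right n (Nat.coprime_two_right.2 ⟨m, hm⟩)) (pow_orderOf_eq_one j) hjn
  rcases h.R_image hk hky with e | e
  · exact Or.inl (key hk hky hn e)
  · right
    by_cases hn0 : n = 0
    · subst hn0
      rw [pow_zero, pow_one] at hn
      subst hn
      rw [mul_one, inv_mul_cancel, X.ψ_one, hgg] at e
      exact absurd e.symm h.symm.ψ_ne
    have hzy : Commute X.z (g * X.z * g⁻¹) := h.1.symm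
    have hkN : g⁻¹ * k * g ∈ X.N := by
      rw [X.mem_N_iff, hgg]
      have := commute_conj (g := g⁻¹) hky
      rwa [show g⁻¹ * (g * X.z * g⁻¹) * g⁻¹⁻¹ = X.z by group] at this
    have hzN : g⁻¹ * X.z * g ∈ X.N := by rw [hgg]; exact h.symm.mem_N
    have h1 := key (mul_mem hk X.z_mem_K) (hky.mul_left hzy) (by
      obtain ⟨m, rfl⟩ := Nat.exists_eq_succ_of_ne_zero hn0
      rw [(X.mem_N_iff.1 (X.K_le hk)).mul_pow, hn, one_mul, pow_succ', pow_mul, pow_two, X.zsq, one_pow]) (by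
      rw [show g⁻¹ * (k * X.z) * g = g⁻¹ * k * g * (g⁻¹ * X.z * g) by group, X.ψ_mul hkN hzN, e, hgg]
      exact h.symm.ψ_sq)
    exact (eq_inv_of_mul_eq_one_left h1).trans (inv_eq_of_mul_eq_one_left X.zsq)

/-- A conjugate of `z` commuting with `z` lies in `L`. -/
theorem IsPair.mem_L {g : G} (h : X.IsPair g) : g * X.z * g⁻¹ ∈ X.L := by
  set y := g * X.z * g⁻¹ with hy
  obtain ⟨w, hw, hew⟩ := X.exists_lift (X.ψ y) ((sign_eq_of_isConj h.type).symm.trans sign_r4)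
  have hk : w⁻¹ * y ∈ X.K := (X.ψ_eq_one (mul_mem (inv_mem (X.L_le hw)) h.mem_N)).1 (by
    rw [X.ψ_mul (inv_mem (X.L_le hw)) h.mem_N, X.ψ_inv (X.L_le hw), hew, inv_mul_cancel])
  have hc : Commute w (w⁻¹ * y) := X.commK hw hk
  have hwy : Commute w y := by
    have := (Commute.refl w).mul_right hc
    rwa [mul_inv_cancel_left] at this
  have hy2 : y ^ 2 = 1 := by rw [hy, conj_pow, pow_two, X.zsq, mul_one, mul_inv_cancel]
  have hw2 : w ^ 2 = 1 ∨ w ^ 2 = X.z := by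
    refine X.L_inter_K (pow_mem hw 2) ?_
    have e : w ^ 2 = ((w⁻¹ * y) ^ 2)⁻¹ := by
      rw [hwy.inv_left.mul_pow, hy2, mul_one, inv_pow, inv_inv]
    rw [e]
    exact inv_mem (pow_mem hk 2)
  have hw4 : w ^ 4 = 1 := by
    rw [show (4 : ℕ) = 2 * 2 by rfl, pow_mul]
    rcases hw2 with e | e <;> simp [e, pow_two, X.zsq]
  have hk4 : (w⁻¹ * y) ^ (2 ^ 2) = 1 := by
    norm_num
    rw [hwy.inv_left.mul_pow, inv_pow, hw4, show (4 : ℕ) = 2 * 2 by rfl, pow_mul, hy2]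
    simp
  rcases h.two_elem hk (hwy.inv_left.mul_left (Commute.refl y)) hk4 with e | e
  · rw [← inv_mul_eq_one.1 e]
    exact hw
  · rw [inv_mul_eq_iff_eq_mul.1 e]
    exact mul_mem hw X.zL

theorem IsPair.K_comm {g : G} (h : X.IsPair g) {k : G} (hk : k ∈ X.K) : Commute k (g * X.z * g⁻¹) :=
  (X.commK h.mem_L hk).symm

end Ctx

end Cfsg.Lib.StdAltEight
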