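import Cfsg.Agent.Components.StdAltEight.Conjugates
import Cfsg.Agent.McLRecog.Final
import Cfsg.Agent.BenderSE.Dependents.CriterionBasic
import Cfsg.Agent.S0111
import Cfsg.Agent.S0223
import Cfsg.Agent.S2903

/-!
A simple group with a standard subgroup which is a double cover of the alternating group of degree eight is
isomorphic to the McLaughlin group.
-/

set_option autoImplicit false
set_option linter.unusedSectionVars false

namespace Cfsg.Lib.StdAltEight

open Subgroup Equiv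

universe u

variable {G : Type u} [Group G] [Finite G]

namespace Ctx

variable (X : Ctx G) (hna : ¬ IsMulCommutative G) [IsSimpleGroup G]

theorem orderOf_z : orderOf X.z = 2 := orderOf_eq_prime (by rw [pow_two, X.zsq]) X.zne

include hna in
theorem z_not_central : X.z ∉ center G := fun hz => by
  rcases (inferInstance : (center G).Normal).eq_bot_or_eq_top with e | e
  · rw [e, mem_bot] at hz
    exact X.zne hz
  · exact hna (isMulCommutative_iff.2 fun a b => ((mem_center_iff.1 (e ▸ mem_top a : a ∈ center G)) b).symm)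

include X in
theorem oddCore_bot : Cfsg.oddCore G = ⊥ := by
  rcases (Cfsg.pPrimeCore_normal 2 G).eq_bot_or_eq_top with e | e
  · exact e
  · exfalso
    have h := Cfsg.Lib.ZStarApps.odd_card_pPrimeCore (G := G)
    rw [e, Subgroup.card_top] at h
    exact absurd (X.orderOf_z ▸ orderOf_dvd_natCard X.z) (Nat.two_dvd_ne_zero.2 (Nat.odd_iff.1 h))

include hna in
theorem exists_pair_elem : ∃ g, X.IsPair g := by
  by_contra hno
  push Not at hno
  have hiso : Cfsg.IsIsolatedInvolution X.z := ⟨X.orderOf_z, fun g hc => by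
    by_contra hne
    exact hno g ⟨hc.symm, hne⟩⟩
  have h := Cfsg.Lib.McLRecog.isolated_case hiso
  rw [X.oddCore_bot, sup_bot_eq] at h
  exact X.z_not_central hna (mem_center_iff.2 fun g => by
    have hg : g ∈ centralizer ({X.z} : Set G) := h ▸ mem_top g
    exact mem_centralizer_singleton_iff.1 hg)

/-- The elements of odd order of `K`. -/
noncomputable def U : Subgroup G :=
  closure {x : G | x ∈ X.K ∧ Odd (orderOf x)}

include hna in
theorem mem_U_iff {x : G} : x ∈ X.U ↔ x ∈ X.K ∧ Odd (orderOf x) := by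
  obtain ⟨g, hg⟩ := X.exists_pair_elem hna
  refine ⟨fun hx => ?_, fun h => subset_closure h⟩
  have hgg : ∀ t : G, g⁻¹ * t * g = g⁻¹ * t * g⁻¹⁻¹ := fun t => by rw [inv_inv]
  have hle : X.U ≤ X.K ⊓ X.K.map (MulAut.conj g).toMonoidHom := by
    rw [U, closure_le]
    rintro t ⟨ht, htodd⟩
    refine ⟨ht, g⁻¹ * t * g, ?_, by simp; group⟩
    have htN : g⁻¹ * t * g ∈ X.N := by
      rw [X.mem_N_iff, hgg]
      have := commute_conj (g := g⁻¹) (hg.K_comm ht)
      rwa [show g⁻¹ * (g * X.z * g⁻¹) * g⁻¹⁻¹ = X.z by group] at this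
    refine (X.ψ_eq_one htN).1 ?_
    rcases hg.R_image ht (hg.K_comm ht) with e | e
    · exact e
    · refine eq_one_of_pow_coprime (m := orderOf t) (n := 2) (Nat.coprime_two_right.2 htodd) ?_ ?_
      · rw [← X.ψ_pow htN, hgg, conj_pow, pow_orderOf_eq_one, mul_one, mul_inv_cancel, X.ψ_one]
      · rw [e, pow_two, hgg]
        exact hg.symm.ψ_sq
  have hx' := hle hx
  obtain ⟨x', hx'K, e⟩ := hx'.2
  exact ⟨hx'.1, X.odd_of_mem_K_conj hg.not_mem hx'.1 (by
    rw [← e]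
    simpa [mul_assoc] using hx'K)⟩

include hna in
theorem K_cases {x : G} (hx : x ∈ X.K) : x ∈ X.U ∨ x * X.z ∈ X.U := by
  obtain ⟨g, hg⟩ := X.exists_pair_elem hna
  have hgg : ∀ t : G, g⁻¹ * t * g = g⁻¹ * t * g⁻¹⁻¹ := fun t => by rw [inv_inv]
  have hN : ∀ {t : G}, t ∈ X.K → g⁻¹ * t * g ∈ X.N := fun {t} ht => by
    rw [X.mem_N_iff, hgg]
    have := commute_conj (g := g⁻¹) (hg.K_comm ht)
    rwa [show g⁻¹ * (g * X.z * g⁻¹) * g⁻¹⁻¹ = X.z by group] at this
  rw [X.mem_U_iff hna, X.mem_U_iff hna]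
  rcases hg.R_image hx (hg.K_comm hx) with e | e
  · exact Or.inl ⟨hx, X.odd_of_mem_K_conj hg.not_mem hx ((X.ψ_eq_one (hN hx)).1 e)⟩
  · refine Or.inr ⟨mul_mem hx X.z_mem_K, X.odd_of_mem_K_conj hg.not_mem (mul_mem hx X.z_mem_K)
      ((X.ψ_eq_one (hN (mul_mem hx X.z_mem_K))).1 ?_)⟩
    rw [show g⁻¹ * (x * X.z) * g = g⁻¹ * x * g * (g⁻¹ * X.z * g) by group,
      X.ψ_mul (hN hx) (hN X.z_mem_K), e, hgg]
    exact hg.symm.ψ_sq

include hna in
theorem two_elem_K {x : G} (hx : x ∈ X.K) {n : ℕ} (hn : x ^ (2 ^ n) = 1) : x = 1 ∨ x = X.z := by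
  obtain ⟨g, hg⟩ := X.exists_pair_elem hna
  exact hg.two_elem hx (hg.K_comm hx) hn

include hna in
/-- Transporters of commuting conjugates of `z` normalise `U`. -/
theorem mem_normalizer_U {g : G} (h : Commute (g * X.z * g⁻¹) X.z) : g ∈ normalizer (X.U : Set G) := by
  refine Cfsg.Lib.ZStarApps.mem_normalizer_of_maps fun a ha => ?_
  obtain ⟨haK, haodd⟩ := (X.mem_U_iff hna).1 ha
  rw [X.mem_U_iff hna]
  have ho : orderOf (g * a * g⁻¹) = orderOf a := (orderOf_injective (MulAut.conj g).toMonoidHom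
    (MulAut.conj g).injective a)
  refine ⟨?_, ho ▸ haodd⟩
  by_cases hg : g * X.z * g⁻¹ = X.z
  · have hgN : g ∈ X.N := X.mem_N_iff.2 (mul_inv_eq_iff_eq_mul.1 hg)
    exact X.conj_mem_K hgN haK
  · have hp : X.IsPair g⁻¹ := IsPair.symm ⟨h, hg⟩
    have hc := hp.K_comm haK
    have hN : g * a * g⁻¹ ∈ X.N := by
      rw [X.mem_N_iff]
      have := commute_conj (g := g) hc
      rwa [show g * (g⁻¹ * X.z * g⁻¹⁻¹) * g⁻¹ = X.z by group] at this
    refine (X.ψ_eq_one hN).1 ?_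
    have him := hp.R_image haK hc
    simp only [inv_inv] at him
    rcases him with e | e
    · exact e
    · refine eq_one_of_pow_coprime (m := orderOf a) (n := 2) (Nat.coprime_two_right.2 haodd) ?_ ?_
      · rw [← X.ψ_pow hN, conj_pow, pow_orderOf_eq_one, mul_one, mul_inv_cancel, X.ψ_one]
      · rw [e, pow_two]
        exact IsPair.ψ_sq ⟨h, hg⟩

include hna in
theorem z_conj_ne_class {y : G} (hy : y ∈ X.L) (hy4 : IsConj r4 (X.ψ y)) :
    ∃ t ∈ X.L, t * y * t⁻¹ = y * X.z := by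
  obtain ⟨d, hd, hdu, hdu4⟩ := exists_twist hy4
  obtain ⟨t, ht, het⟩ := X.exists_lift d ((sign_eq_of_isConj hd).symm.trans sign_r2)
  refine ⟨t, ht, ?_⟩
  have htN := X.L_le ht
  have hyN := X.L_le hy
  have hts : t * t = X.z := X.dbl' ht (het ▸ hd)
  have hk : t * y * t⁻¹ * y⁻¹ ∈ X.K := (X.ψ_eq_one (mul_mem (mul_mem (mul_mem htN hyN) (inv_mem htN)) (inv_mem hyN))).1 (by
    rw [X.ψ_mul (mul_mem (mul_mem htN hyN) (inv_mem htN)) (inv_mem hyN), X.ψ_inv hyN, X.ψ_conj htN hyN, het, hdu.eq]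
    group)
  rcases X.L_inter_K (mul_mem (mul_mem (mul_mem ht hy) (inv_mem ht)) (inv_mem hy)) hk with e | e
  · exfalso
    rw [mul_inv_eq_one, mul_inv_eq_iff_eq_mul] at e
    -- then `t * y` has image of type `2^4` and square `z * y²`
    have hsq : t * y * (t * y) = X.z * (y * y) := by
      rw [mul_assoc, ← mul_assoc y t y, ← e, ← mul_assoc, ← mul_assoc, hts, mul_assoc]
    obtain ⟨g, hg⟩ := X.exists_pair_elem hna
    have key : ∀ l ∈ X.L, IsConj r4 (X.ψ l) → l * l = 1 := by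
      intro l hl hl4
      obtain ⟨c, hc, hce⟩ := even_conj (Or.inr rfl) hg.type
      obtain ⟨d', hd', hde⟩ := even_conj (Or.inr rfl) hl4
      obtain ⟨s, hs, hse⟩ := X.exists_lift (d' * c⁻¹) (by rw [map_mul, map_inv, hc, hd']; rfl)
      have hsN := X.L_le hs
      set y0 := g * X.z * g⁻¹ with hy0
      have hcjL : s * y0 * s⁻¹ ∈ X.L := mul_mem (mul_mem hs hg.mem_L) (inv_mem hs)
      have hk' : l * (s * y0 * s⁻¹)⁻¹ ∈ X.K := (X.ψ_eq_one (mul_mem (X.L_le hl) (inv_mem (X.L_le hcjL)))).1 (by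
        rw [X.ψ_mul (X.L_le hl) (inv_mem (X.L_le hcjL)), X.ψ_inv (X.L_le hcjL), X.ψ_conj hsN hg.mem_N, hse,
          ← hce, ← hde]
        group)
      have h0 : s * y0 * s⁻¹ * (s * y0 * s⁻¹) = 1 := by
        rw [conj_mul_conj, hy0, conj_mul_conj, X.zsq]
        group
      rcases X.L_inter_K (mul_mem hl (inv_mem hcjL)) hk' with e' | e'
      · rw [mul_inv_eq_one.1 e', h0]
      · rw [mul_inv_eq_iff_eq_mul.1 e']
        calc X.z * (s * y0 * s⁻¹) * (X.z * (s * y0 * s⁻¹))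
            = X.z * ((s * y0 * s⁻¹) * X.z) * (s * y0 * s⁻¹) := by group
          _ = X.z * X.z * (s * y0 * s⁻¹ * (s * y0 * s⁻¹)) := by rw [X.zcomm _ hcjL]; group
          _ = 1 := by rw [X.zsq, h0, one_mul]
    have h1 := key (t * y) (mul_mem ht hy) (by rw [X.ψ_mul htN hyN, het]; exact hdu4)
    rw [hsq, key y hy hy4, mul_one] at h1
    exact X.zne h1
  · rw [mul_inv_eq_iff_eq_mul.1 e, X.zcomm y hy]

include hna in
/-- An involution of `N` acting evenly is conjugate to `z`. -/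
theorem conj_z_of_even {x : G} (hxN : x ∈ X.N) (hx : orderOf x = 2) (he : Perm.sign (X.ψ x) = 1) :
    ∃ h, h * X.z * h⁻¹ = x := by
  have hxx : x * x = 1 := by rw [← pow_two, ← hx, pow_orderOf_eq_one]
  have hx1 : x ≠ 1 := fun e => by rw [e, orderOf_one] at hx; omega
  by_cases hk : X.ψ x = 1
  · rcases X.two_elem_K hna ((X.ψ_eq_one hxN).1 hk) (n := 1) (by rw [pow_one, pow_two, hxx]) with e | e
    · exact absurd e hx1
    · exact ⟨1, by rw [e]; group⟩
  obtain ⟨w, hw, hew⟩ := X.exists_lift (X.ψ x) he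
  have hwN := X.L_le hw
  have hkk : w⁻¹ * x ∈ X.K := (X.ψ_eq_one (mul_mem (inv_mem hwN) hxN)).1 (by
    rw [X.ψ_mul (inv_mem hwN) hxN, X.ψ_inv hwN, hew, inv_mul_cancel])
  have hwx : Commute w x := by
    have := (Commute.refl w).mul_right (X.commK hw hkk)
    rwa [mul_inv_cancel_left] at this
  have hψ2 : X.ψ x * X.ψ x = 1 := by rw [← X.ψ_mul hxN hxN, hxx, X.ψ_one]
  have h4 : (w⁻¹ * x) ^ (2 ^ 2) = 1 := by
    have hw2K : w * w ∈ X.K := (X.ψ_eq_one (mul_mem hwN hwN)).1 (by rw [X.ψ_mul hwN hwN, hew, hψ2])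
    have hw4 : w ^ 4 = 1 := by
      rcases X.L_inter_K (mul_mem hw hw) hw2K with e | e <;>
        rw [show (4 : ℕ) = 2 * 2 by rfl, pow_mul, pow_two w, e] <;> simp [pow_two, X.zsq]
    show (w⁻¹ * x) ^ 4 = 1
    rw [hwx.inv_left.mul_pow, inv_pow, hw4, show (4 : ℕ) = 2 * 2 by rfl, pow_mul, pow_two x, hxx]
    simp
  have hxL : x ∈ X.L := by
    rcases X.two_elem_K hna hkk h4 with e | e
    · rw [← inv_mul_eq_one.1 e]; exact hw
    · rw [inv_mul_eq_iff_eq_mul.1 e]; exact mul_mem hw X.zL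
  rcases even_invol_cases hψ2 hk he with h | h
  · exact absurd ((X.dbl' hxL h).symm.trans hxx) X.zne
  obtain ⟨g, hg⟩ := X.exists_pair_elem hna
  set y0 := g * X.z * g⁻¹ with hy0
  obtain ⟨c, hc, hce⟩ := even_conj (Or.inr rfl) hg.type
  obtain ⟨d', hd', hde⟩ := even_conj (Or.inr rfl) h
  obtain ⟨s, hs, hse⟩ := X.exists_lift (d' * c⁻¹) (by rw [map_mul, map_inv, hc, hd']; rfl)
  have hcjL : s * y0 * s⁻¹ ∈ X.L := mul_mem (mul_mem hs hg.mem_L) (inv_mem hs)
  have hk' : x * (s * y0 * s⁻¹)⁻¹ ∈ X.K := (X.ψ_eq_one (mul_mem (X.L_le hxL) (inv_mem (X.L_le hcjL)))).1 (by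
    rw [X.ψ_mul (X.L_le hxL) (inv_mem (X.L_le hcjL)), X.ψ_inv (X.L_le hcjL), X.ψ_conj (X.L_le hs) hg.mem_N, hse,
      ← hce, ← hde]
    group)
  rcases X.L_inter_K (mul_mem hxL (inv_mem hcjL)) hk' with e | e
  · exact ⟨s * g, by rw [mul_inv_eq_one.1 e, hy0]; group⟩
  · obtain ⟨t, ht, hte⟩ := X.z_conj_ne_class hna hg.mem_L hg.type
    replace hte : t * y0 * t⁻¹ = y0 * X.z := hte
    refine ⟨s * t * g, ?_⟩
    rw [mul_inv_eq_iff_eq_mul.1 e]
    calc s * t * g * X.z * (s * t * g)⁻¹ = s * (t * y0 * t⁻¹) * s⁻¹ := by rw [hy0]; group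
      _ = s * y0 * (X.z * s⁻¹) := by rw [hte]; group
      _ = s * y0 * (s⁻¹ * X.z) := by rw [(X.zcomm _ (inv_mem hs))]
      _ = (s * y0 * s⁻¹) * X.z := by group
      _ = X.z * (s * y0 * s⁻¹) := X.zcomm _ hcjL

include hna in
/-- A Sylow subgroup of `N` is one of `G`. -/
theorem sylow_N (P : Sylow 2 ↥X.N) : ∃ S : Sylow 2 G, (S : Subgroup G) = (P : Subgroup ↥X.N).map X.N.subtype := by
  haveI : Fact (Nat.Prime 2) := ⟨Nat.prime_two⟩
  set Q := (P : Subgroup ↥X.N).map X.N.subtype with hQ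
  have hQp : IsPGroup 2 Q := P.2.map _
  have hQN : Q ≤ X.N := map_subtype_le _
  obtain ⟨T, hQT⟩ := hQp.exists_le_sylow
  by_contra hno
  have hne : Q ≠ (T : Subgroup G) := fun e => hno ⟨T, e.symm⟩
  have hmax : ∀ R : Subgroup G, IsPGroup 2 R → R ≤ X.N → Q ≤ R → R = Q := fun R hR hRN hQR => by
    have h1 : R.subgroupOf X.N = P := P.is_maximal' (hR.comap_of_injective _ X.N.subtype_injective) (by
      intro p hp
      exact hQR ⟨p, hp, rfl⟩)
    rw [hQ, ← h1, subgroupOf_map_subtype, inf_eq_left.2 hRN]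
  -- an element normalising `Q` outside `N`
  obtain ⟨h, hh, hhQ⟩ : ∃ h ∈ (T : Subgroup G) ⊓ normalizer (Q : Set G), h ∉ Q := by
    haveI : Group.IsNilpotent ↥(T : Subgroup G) := T.2.isNilpotent
    have hlt : Q.subgroupOf T < ⊤ := lt_top_iff_ne_top.2 fun e => hne (le_antisymm hQT (subgroupOf_eq_top.1 e))
    obtain ⟨a, ha, haQ⟩ := SetLike.exists_of_lt (Group.normalizerCondition_of_isNilpotent _ hlt)
    refine ⟨a, ⟨a.2, ?_⟩, fun hc => haQ hc⟩
    refine Cfsg.Lib.ZStarApps.mem_normalizer_of_maps fun q hq => ?_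
    exact ((mem_normalizer_iff.1 ha ⟨q, hQT hq⟩).1 hq)
  have hzQ : X.z ∈ Q := by
    have hzc : (⟨X.z, X.L_le X.zL⟩ : ↥X.N) ∈ center ↥X.N := mem_center_iff.2 fun a =>
      Subtype.ext (X.mem_N_iff.1 a.2).eq
    have hzp : IsPGroup 2 (zpowers (⟨X.z, X.L_le X.zL⟩ : ↥X.N)) := IsPGroup.of_card (n := 1) (by
      rw [Nat.card_zpowers, Subgroup.orderOf_mk, X.orderOf_z, pow_one])
    haveI : (zpowers (⟨X.z, X.L_le X.zL⟩ : ↥X.N)).Normal := ⟨fun a ha b => by
      obtain ⟨k, rfl⟩ := mem_zpowers_iff.1 ha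
      rw [(mem_center_iff.1 (zpow_mem hzc k) b), mul_inv_cancel_right]
      exact zpow_mem (mem_zpowers _) k⟩
    exact ⟨_, hzp.le_sylow_of_normal P (mem_zpowers _), rfl⟩
  have hzcent : ∀ q ∈ Q, Commute q X.z := fun q hq => X.mem_N_iff.1 (hQN hq)
  have hyQ : h * X.z * h⁻¹ ∈ Q := (mem_normalizer_iff.1 hh.2 X.z).1 hzQ
  have hycent : ∀ q ∈ Q, Commute q (h * X.z * h⁻¹) := fun q hq => by
    have hq' : h⁻¹ * q * h ∈ Q := by
      have := (mem_normalizer_iff.1 (inv_mem hh.2) q).1 hq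
      rwa [inv_inv] at this
    have := commute_conj (g := h) (hzcent _ hq')
    rwa [show h * (h⁻¹ * q * h) * h⁻¹ = q by group] at this
  by_cases hyz : h * X.z * h⁻¹ = X.z
  · have hhN : h ∈ X.N := X.mem_N_iff.2 (mul_inv_eq_iff_eq_mul.1 hyz)
    have hmem := hmax ((T : Subgroup G) ⊓ X.N) (T.2.to_le inf_le_left) inf_le_right (le_inf hQT hQN)
    exact hhQ (hmem ▸ ⟨hh.1, hhN⟩)
  have hp : X.IsPair h := ⟨hycent _ hzQ |>.symm, hyz⟩
  set y := h * X.z * h⁻¹ with hy
  -- the centraliser of `y` in `L` has odd index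
  haveI hLn : (X.L.subgroupOf X.N).Normal := ⟨fun a ha b => X.conj_mem_L b.2 ha⟩
  let C : Subgroup ↥X.L := centralizer ({(⟨y, hp.mem_L⟩ : ↥X.L)} : Set ↥X.L)
  have heven : 2 ∣ C.index := by
    have hidx : C.index = Nat.card {a : ↥X.L // IsConj (⟨y, hp.mem_L⟩ : ↥X.L) a} := by
      have h := (congrArg Subgroup.index (Subgroup.centralizer_eq_comap_stabilizer (⟨y, hp.mem_L⟩ : ↥X.L))).trans
        ((MulAction.stabilizer (ConjAct ↥X.L) (⟨y, hp.mem_L⟩ : ↥X.L)).index_comap_of_surjective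
          (f := (ConjAct.toConjAct (G := ↥X.L)).toMonoidHom) ConjAct.toConjAct.surjective)
      rw [MulAction.index_stabilizer, ← Nat.card_coe_set_eq] at h
      refine h.trans ?_
      exact Nat.card_congr (Equiv.subtypeEquivRight fun a => by
        rw [ConjAct.mem_orbit_conjAct, isConj_comm])
    rw [hidx]
    obtain ⟨t, ht, hte⟩ := X.z_conj_ne_class hna hp.mem_L hp.type
    replace hte : t * y * t⁻¹ = y * X.z := hte
    let zz : ↥X.L := ⟨X.z, X.zL⟩
    have hzz : zz * zz = 1 := Subtype.ext X.zsq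
    let f : {a : ↥X.L // IsConj (⟨y, hp.mem_L⟩ : ↥X.L) a} → {a : ↥X.L // IsConj (⟨y, hp.mem_L⟩ : ↥X.L) a} :=
      fun a => ⟨a.1 * zz, by
        obtain ⟨c, hc⟩ := isConj_iff.1 a.2
        refine isConj_iff.2 ⟨c * ⟨t, ht⟩, ?_⟩
        rw [← hc]
        apply Subtype.ext
        show (c : G) * t * y * ((c : G) * t)⁻¹ = (c : G) * y * (c : G)⁻¹ * X.z
        calc (c : G) * t * y * ((c : G) * t)⁻¹ = (c : G) * (t * y * t⁻¹) * (c : G)⁻¹ := by group
          _ = (c : G) * y * (X.z * (c : G)⁻¹) := by rw [hte]; group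
          _ = (c : G) * y * ((c : G)⁻¹ * X.z) := by rw [X.zcomm _ (inv_mem c.2)]
          _ = _ := by group⟩
    have hf2 : ∀ a, f (f a) = a := fun a => Subtype.ext (by
      show a.1 * zz * zz = a.1
      rw [mul_assoc, hzz, mul_one])
    have hfne : ∀ a, f a ≠ a := fun a e => by
      have e' : a.1 * zz = a.1 := congrArg Subtype.val e
      exact X.zne (congrArg Subtype.val (mul_eq_left.1 e'))
    haveI := Fintype.ofFinite {a : ↥X.L // IsConj (⟨y, hp.mem_L⟩ : ↥X.L) a}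
    rw [Nat.card_eq_fintype_card]
    haveI : Fact (Nat.Prime 2) := ⟨Nat.prime_two⟩
    by_contra hodd
    obtain ⟨a, ha⟩ := (Function.Involutive.toPerm f hf2).exists_fixed_point_of_prime (p := 2) (n := 1)
      hodd (Equiv.ext fun a => by rw [pow_one, pow_two, Perm.mul_apply, Perm.one_apply]; exact hf2 a)
    exact hfne a ha
  have hodd : ¬ 2 ∣ C.index := by
    let PL : Subgroup ↥(X.L.subgroupOf X.N) := (P : Subgroup ↥X.N).subgroupOf (X.L.subgroupOf X.N)
    have h1 : ¬ 2 ∣ PL.index := fun hd => P.not_dvd_index (hd.trans (by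
      show (P : Subgroup ↥X.N).relIndex (X.L.subgroupOf X.N) ∣ _
      rw [Cfsg.Lib.Transfer.relIndex_eq_relIndex_sup_of_normal]
      exact relIndex_dvd_index_of_le le_sup_left))
    let e := Subgroup.subgroupOfEquivOfLe (show X.L ≤ X.N from fun a ha => X.L_le ha)
    have h2 : PL.map e.toMonoidHom ≤ C := by
      rintro _ ⟨a, ha, rfl⟩
      rw [mem_centralizer_singleton_iff]
      exact Subtype.ext (hycent _ ⟨a.1, ha, rfl⟩).eq
    intro h3
    have h4 : (PL.map e.toMonoidHom).index = PL.index := Subgroup.index_map_equiv PL e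
    exact h1 (h4 ▸ h3.trans (Subgroup.index_dvd_of_le h2))
  exact hodd heven

include hna in
/-- No element of `N` acts as an odd permutation. -/
theorem all_even {x : G} (hx : x ∈ X.N) : Perm.sign (X.ψ x) = 1 := by
  haveI : Fact (Nat.Prime 2) := ⟨Nat.prime_two⟩
  by_contra hodd
  -- the action is onto
  have hsurj : ∀ p : P8, ∃ a ∈ X.N, X.ψ a = p := by
    intro p
    rcases Int.units_eq_one_or (Perm.sign p) with hp | hp
    · obtain ⟨a, ha, e⟩ := X.exists_lift p hp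
      exact ⟨a, X.L_le ha, e⟩
    · obtain ⟨a, ha, e⟩ := X.exists_lift (p * (X.ψ x)⁻¹) (by
        rw [map_mul, map_inv, hp, (Int.units_eq_one_or _).resolve_left hodd]
        rfl)
      exact ⟨a * x, mul_mem (X.L_le ha) hx, by rw [X.ψ_mul (X.L_le ha) hx, e, inv_mul_cancel_right]⟩
  -- a two-group mapping onto the group of three disjoint transpositions
  let W : Subgroup P8 := closure {swap 0 1, swap 2 3, swap 4 5}
  have hWgen : ∀ a ∈ ({swap 0 1, swap 2 3, swap 4 5} : Set P8), ∀ b ∈ ({swap 0 1, swap 2 3, swap 4 5} : Set P8),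
      a * b = b * a := by
    intro a ha b hb
    simp only [Set.mem_insert_iff, Set.mem_singleton_iff] at ha hb
    rcases ha with rfl | rfl | rfl <;> rcases hb with rfl | rfl | rfl <;> exact eq_of_all (by decide)
  have hW2 : ∀ w ∈ W, w * w = 1 := by
    haveI := Subgroup.isMulCommutative_closure hWgen
    intro w hw
    induction hw using closure_induction with
    | mem a ha =>
      simp only [Set.mem_insert_iff, Set.mem_singleton_iff] at ha
      rcases ha with rfl | rfl | rfl <;> exact swap_mul_self _ _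
    | one => simp
    | mul a b ha hb iha ihb =>
      have hc : a * b = b * a := congrArg Subtype.val
        (mul_comm' (⟨a, ha⟩ : W) ⟨b, hb⟩)
      rw [mul_assoc, ← mul_assoc b a b, ← hc, mul_assoc a b b, ihb, mul_one, iha]
    | inv a ha iha => rw [← mul_inv_rev, iha, inv_one]
  let A : Subgroup ↥X.N := W.comap X.φ
  obtain ⟨Q⟩ : Nonempty (Sylow 2 ↥A) := inferInstance
  have honto : ∀ p ∈ W, ∃ q : ↥A, q ∈ (Q : Subgroup ↥A) ∧ X.ψ ((q : ↥X.N) : G) = p := by
    intro p hp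
    let f : ↥A →* ↥W := (X.φ.comp A.subtype).codRestrict W fun a => a.2
    have hfs : Function.Surjective f := fun w => by
      obtain ⟨a, ha, e⟩ := hsurj w.1
      rw [X.ψ_of_mem ha] at e
      exact ⟨⟨⟨a, ha⟩, show X.φ _ ∈ W by rw [e]; exact w.2⟩, Subtype.ext e⟩
    have hWp : IsPGroup 2 W := fun w => ⟨1, Subtype.ext (by
      rw [pow_one, SubgroupClass.coe_pow, pow_two, OneMemClass.coe_one]; exact hW2 w.1 w.2)⟩
    have htop : ((Q : Subgroup ↥A).map f : Subgroup ↥W) = ⊤ := by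
      rw [← Sylow.coe_mapSurjective hfs]
      exact (Sylow.mapSurjective hfs Q).is_maximal' (hWp.to_subgroup ⊤) le_top |>.symm
    obtain ⟨q, hq, e⟩ : (⟨p, hp⟩ : W) ∈ ((Q : Subgroup ↥A).map f : Subgroup ↥W) := htop ▸ mem_top _
    exact ⟨q, hq, (X.ψ_of_mem _).trans (congrArg Subtype.val e)⟩
  obtain ⟨q1, hq1, e1⟩ := honto (swap 0 1) (subset_closure (by simp))
  obtain ⟨q2, hq2, e2⟩ := honto (swap 2 3) (subset_closure (by simp))
  obtain ⟨q3, hq3, e3⟩ := honto (swap 4 5) (subset_closure (by simp))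
  have hpow : ∀ q : ↥A, q ∈ (Q : Subgroup ↥A) → ∃ n : ℕ, ((q : ↥X.N) : G) ^ (2 ^ n) = 1 := fun q hq => by
    obtain ⟨n, hn⟩ := Q.2 ⟨q, hq⟩
    exact ⟨n, congrArg (fun a : (Q : Subgroup ↥A) => (((a : ↥A) : ↥X.N) : G)) hn⟩
  -- squares
  have hsquare : ∀ q : ↥A, q ∈ (Q : Subgroup ↥A) → X.ψ ((q : ↥X.N) : G) * X.ψ ((q : ↥X.N) : G) = 1 →
      ((q : ↥X.N) : G) * ((q : ↥X.N) : G) = 1 ∨ ((q : ↥X.N) : G) * ((q : ↥X.N) : G) = X.z := fun q hq h => by
    obtain ⟨n, hn⟩ := hpow (q * q) (mul_mem hq hq)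
    exact X.two_elem_K hna ((X.ψ_eq_one (mul_mem (q : ↥X.N).2 (q : ↥X.N).2)).1
      (by rw [X.ψ_mul (q : ↥X.N).2 (q : ↥X.N).2, h])) hn
  have hdbl : ∀ q : ↥A, q ∈ (Q : Subgroup ↥A) → IsConj r2 (X.ψ ((q : ↥X.N) : G)) →
      ((q : ↥X.N) : G) * ((q : ↥X.N) : G) = X.z := by
    intro q hq h
    set a := ((q : ↥X.N) : G) with ha
    have haN : a ∈ X.N := (q : ↥X.N).2
    obtain ⟨w, hw, hew⟩ := X.exists_lift (X.ψ a) ((sign_eq_of_isConj h).symm.trans sign_r2)
    have hkk : w⁻¹ * a ∈ X.K := (X.ψ_eq_one (mul_mem (inv_mem (X.L_le hw)) haN)).1 (by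
      rw [X.ψ_mul (inv_mem (X.L_le hw)) haN, X.ψ_inv (X.L_le hw), hew, inv_mul_cancel])
    have hwa : Commute w a := by
      have := (Commute.refl w).mul_right (X.commK hw hkk)
      rwa [mul_inv_cancel_left] at this
    have hw2 : w * w = X.z := X.dbl' hw (hew ▸ h)
    obtain ⟨n, hn⟩ := hpow q hq
    have hwn : w ^ (2 ^ (n + 2)) = 1 := by
      rw [show 2 ^ (n + 2) = 2 * (2 * 2 ^ n) by ring, pow_mul, pow_two, hw2, pow_mul, pow_two, X.zsq, one_pow]
    have hk2 : (w⁻¹ * a) ^ (2 ^ (n + 2)) = 1 := by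
      rw [hwa.inv_left.mul_pow, inv_pow, hwn, pow_add, pow_mul, ← ha] at *
      rw [hn]
      simp
    rcases X.two_elem_K hna hkk hk2 with e | e
    · rw [← inv_mul_eq_one.1 e, hw2]
    · rw [inv_mul_eq_iff_eq_mul.1 e, Commute.mul_mul_mul_comm (X.zcomm w hw).symm, hw2, X.zsq, mul_one]
  set a1 := ((q1 : ↥X.N) : G) with ha1
  set a2 := ((q2 : ↥X.N) : G) with ha2
  set a3 := ((q3 : ↥X.N) : G) with ha3
  have n1 : a1 ∈ X.N := (q1 : ↥X.N).2
  have n2 : a2 ∈ X.N := (q2 : ↥X.N).2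
  have n3 : a3 ∈ X.N := (q3 : ↥X.N).2
  -- an involution acting as an odd permutation
  obtain ⟨s, hsN, hso, hs⟩ : ∃ s ∈ X.N, Perm.sign (X.ψ s) ≠ 1 ∧ orderOf s = 2 := by
    have hswap : ∀ {i j : Fin 8}, i ≠ j → Perm.sign (swap i j : P8) ≠ 1 := fun h => by
      rw [Perm.sign_swap h]; decide
    have mk : ∀ s ∈ X.N, Perm.sign (X.ψ s) ≠ 1 → s * s = 1 → ∃ s ∈ X.N, Perm.sign (X.ψ s) ≠ 1 ∧ orderOf s = 2 :=
      fun s hs ho h2 => ⟨s, hs, ho, orderOf_eq_prime (by rw [pow_two, h2]) fun e => ho (by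
        rw [e, X.ψ_one]; exact map_one _)⟩
    rcases hsquare q1 hq1 (by rw [e1, swap_mul_self]) with h1 | h1
    · exact mk a1 n1 (by rw [e1]; exact hswap (by decide)) h1
    rcases hsquare q2 hq2 (by rw [e2, swap_mul_self]) with h2 | h2
    · exact mk a2 n2 (by rw [e2]; exact hswap (by decide)) h2
    rcases hsquare q3 hq3 (by rw [e3, swap_mul_self]) with h3 | h3
    · exact mk a3 n3 (by rw [e3]; exact hswap (by decide)) h3
    have hd12 : a1 * a2 * (a1 * a2) = X.z := hdbl (q1 * q2) (mul_mem hq1 hq2) (by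
      show IsConj r2 (X.ψ (a1 * a2))
      rw [X.ψ_mul n1 n2, e1, e2]; exact IsConj.refl _)
    have hd13 : a1 * a3 * (a1 * a3) = X.z := hdbl (q1 * q3) (mul_mem hq1 hq3) (by
      show IsConj r2 (X.ψ (a1 * a3))
      rw [X.ψ_mul n1 n3, e1, e3]
      exact isConj_iff.2 ⟨swap 2 4 * swap 3 5, eq_of_all (by decide)⟩)
    have hd23 : a2 * a3 * (a2 * a3) = X.z := hdbl (q2 * q3) (mul_mem hq2 hq3) (by
      show IsConj r2 (X.ψ (a2 * a3))
      rw [X.ψ_mul n2 n3, e2, e3]
      exact isConj_iff.2 ⟨swap 0 4 * swap 1 5, eq_of_all (by decide)⟩)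
    refine mk (a1 * a2 * a3) (mul_mem (mul_mem n1 n2) n3) ?_ ?_
    · rw [X.ψ_mul (mul_mem n1 n2) n3, X.ψ_mul n1 n2, e1, e2, e3]
      decide
    · -- distinct lifts anticommute
      have hz : ∀ a : G, a ∈ X.N → a * X.z = X.z * a := fun a ha => (X.mem_N_iff.1 ha).eq
      have anti : ∀ a b : G, a ∈ X.N → b ∈ X.N → a * a = X.z → b * b = X.z → a * b * (a * b) = X.z →
          b * a = a * b * X.z := by
        intro a b ha hb haa hbb hab
        calc b * a = a⁻¹ * (a * b * (a * b)) * b⁻¹ := by group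
          _ = a⁻¹ * (a * a) * b⁻¹ := by rw [hab, haa]
          _ = a * (b⁻¹ * (b * b)) * (b * b)⁻¹ := by group
          _ = _ := by rw [hbb, inv_eq_of_mul_eq_one_left X.zsq, ← hbb]; group
      have c12 := anti a1 a2 n1 n2 h1 h2 hd12
      have c13 := anti a1 a3 n1 n3 h1 h3 hd13
      have c23 := anti a2 a3 n2 n3 h2 h3 hd23
      calc a1 * a2 * a3 * (a1 * a2 * a3) = a1 * a2 * (a3 * a1) * a2 * a3 := by group
        _ = a1 * a2 * (a1 * a3) * (X.z * a2) * a3 := by rw [c13]; group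
        _ = a1 * a2 * a1 * (a3 * a2) * X.z * a3 := by rw [← hz a2 n2]; group
        _ = a1 * (a2 * a1) * a2 * a3 * (X.z * X.z) * a3 := by rw [c23]; group
        _ = a1 * a1 * a2 * (X.z * a2) * a3 * a3 := by rw [c12, X.zsq]; group
        _ = a1 * a1 * (a2 * a2) * (X.z * (a3 * a3)) := by rw [← hz a2 n2]; group
        _ = 1 := by rw [h1, h2, h3, X.zsq, mul_one]
  -- transfer
  have hsp : IsPGroup 2 (zpowers (⟨s, hsN⟩ : ↥X.N)) := IsPGroup.of_card (n := 1) (by
    rw [Nat.card_zpowers, Subgroup.orderOf_mk, hs, pow_one])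
  obtain ⟨P, hP⟩ := hsp.exists_le_sylow
  obtain ⟨S, hS⟩ := X.sylow_N hna P
  let evenSub : Subgroup G := (((Perm.sign.comp X.φ).ker) ⊓ (P : Subgroup ↥X.N)).map X.N.subtype
  have hle : evenSub ≤ (S : Subgroup G) := by rw [hS]; exact map_mono inf_le_right
  have hrel : evenSub.relIndex (S : Subgroup G) = 2 := by
    rw [hS, relIndex_map_map_of_injective _ _ X.N.subtype_injective, inf_relIndex_right, relIndex_ker]
    have hran : (P : Subgroup ↥X.N).map (Perm.sign.comp X.φ) = ⊤ := by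
      refine eq_top_iff.2 fun u _ => ?_
      rcases Int.units_eq_one_or u with rfl | rfl
      · exact one_mem _
      · refine ⟨⟨s, hsN⟩, hP (mem_zpowers _), ?_⟩
        show Perm.sign (X.φ _) = -1
        rw [← X.ψ_of_mem hsN]
        exact (Int.units_eq_one_or _).resolve_left hso
    rw [hran, Subgroup.card_top, Nat.card_eq_fintype_card, Fintype.card_units_int]
  have hsE : s ∉ evenSub := by
    rintro ⟨a, ⟨ha, -⟩, e⟩
    refine hso ?_
    rw [X.ψ_of_mem hsN]
    have : a = ⟨s, hsN⟩ := Subtype.ext e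
    exact this ▸ ha
  have hsS : s ∈ (S : Subgroup G) := by
    rw [hS]; exact ⟨⟨s, hsN⟩, hP (mem_zpowers _), rfl⟩
  rcases Cfsg.Agent.S0111.result S evenSub hle hrel s hs hsS hsE with ⟨M, hMn, hMi, -⟩ | ⟨c, hc⟩
  · rcases hMn.eq_bot_or_eq_top with e | e
    · rw [e, Subgroup.index_bot] at hMi
      haveI : IsCyclic G := isCyclic_of_prime_card hMi
      exact hna inferInstance
    · rw [e, Subgroup.index_top] at hMi
      omega
  · obtain ⟨a, ⟨hae, -⟩, e⟩ := hc
    have e' : (a : G) = c * s * c⁻¹ := e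
    have hcN : c * s * c⁻¹ ∈ X.N := e' ▸ a.2
    have hoc : orderOf (c * s * c⁻¹) = 2 :=
      (orderOf_injective (MulAut.conj c).toMonoidHom (MulAut.conj c).injective s).trans hs
    have he : Perm.sign (X.ψ (c * s * c⁻¹)) = 1 := by
      rw [← e', X.ψ_of_mem a.2]
      exact hae
    obtain ⟨h, hh⟩ := X.conj_z_of_even hna hcN hoc he
    have hpair : X.IsPair (c⁻¹ * h) := by
      have heq : c⁻¹ * h * X.z * (c⁻¹ * h)⁻¹ = s := by
        rw [show c⁻¹ * h * X.z * (c⁻¹ * h)⁻¹ = c⁻¹ * (h * X.z * h⁻¹) * c by group, hh]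
        group
      exact ⟨heq.symm ▸ X.mem_N_iff.1 hsN, fun e => hso (by
        rw [heq] at e
        rw [e, X.ψ_z]
        exact map_one _)⟩
    have heq : c⁻¹ * h * X.z * (c⁻¹ * h)⁻¹ = s := by
      rw [show c⁻¹ * h * X.z * (c⁻¹ * h)⁻¹ = c⁻¹ * (h * X.z * h⁻¹) * c by group, hh]
      group
    have := hpair.type
    rw [heq] at this
    exact hso ((sign_eq_of_isConj this).symm.trans sign_r4)

include hna in
theorem U_eq_bot : X.U = ⊥ := by
  haveI : Fact (Nat.Prime 2) := ⟨Nat.prime_two⟩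
  by_contra hU
  obtain ⟨g, hg⟩ := X.exists_pair_elem hna
  set M := normalizer (X.U : Set G) with hM
  have hNM : X.N ≤ M := fun a ha => X.mem_normalizer_U hna (by
    rw [(X.mem_N_iff.1 ha).eq, mul_inv_cancel_right])
  have hMtop : M ≠ ⊤ := fun e => by
    haveI : X.U.Normal := normalizer_eq_top_iff.1 e
    rcases (inferInstance : X.U.Normal).eq_bot_or_eq_top with h | h
    · exact hU h
    · have := ((X.mem_U_iff hna).1 (h ▸ mem_top X.z : X.z ∈ X.U)).2
      rw [X.orderOf_z] at this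
      exact absurd this (by decide)
  have hzM : X.z ∈ M := hNM (X.L_le X.zL)
  -- every involution of `M` is an `M`-conjugate of `z`
  obtain ⟨P⟩ : Nonempty (Sylow 2 ↥X.N) := inferInstance
  obtain ⟨S, hS⟩ := X.sylow_N hna P
  have hSN : (S : Subgroup G) ≤ X.N := by rw [hS]; exact map_subtype_le _
  have hall : ∀ t ∈ M, orderOf t = 2 → ∃ m ∈ M, m * X.z * m⁻¹ = t := by
    intro t htM ht
    have htp : IsPGroup 2 (zpowers (⟨t, htM⟩ : ↥M)) := IsPGroup.of_card (n := 1) (by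
      rw [Nat.card_zpowers, Subgroup.orderOf_mk, ht, pow_one])
    obtain ⟨T, hT⟩ := htp.exists_le_sylow
    let SM : Sylow 2 ↥M := S.subtype (hSN.trans hNM)
    obtain ⟨m, hm⟩ := MulAction.exists_smul_eq ↥M T SM
    have hmem : m * ⟨t, htM⟩ * m⁻¹ ∈ (SM : Subgroup ↥M) := by
      rw [← hm, Sylow.coe_subgroup_smul]
      exact ⟨⟨t, htM⟩, hT (mem_zpowers _), rfl⟩
    set x := (m : G) * t * (m : G)⁻¹ with hx
    have hxN : x ∈ X.N := hSN hmem
    have hox : orderOf x = 2 :=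
      (orderOf_injective (MulAut.conj (m : G)).toMonoidHom (MulAut.conj (m : G)).injective t).trans ht
    obtain ⟨h, hh⟩ := X.conj_z_of_even hna hxN hox (X.all_even hna hxN)
    have hhM : h ∈ M := X.mem_normalizer_U hna (by rw [hh]; exact X.mem_N_iff.1 hxN)
    refine ⟨(m : G)⁻¹ * h, mul_mem (inv_mem m.2) hhM, ?_⟩
    rw [show (m : G)⁻¹ * h * X.z * ((m : G)⁻¹ * h)⁻¹ = (m : G)⁻¹ * (h * X.z * h⁻¹) * m by group, hh, hx]
    group
  have hse : Cfsg.IsStronglyEmbedded M := by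
    refine (Cfsg.Agent.S0223.result M hMtop (even_iff_two_dvd.2 ?_)).2 ⟨fun t htM ht => ?_, fun t htM s hsM ht hs _ => ?_⟩
    · rw [← X.orderOf_z, ← Subgroup.orderOf_mk X.z hzM]
      exact orderOf_dvd_natCard _
    · obtain ⟨m, hm, rfl⟩ := hall t htM ht
      intro a ha
      have ha' : m⁻¹ * a * m ∈ X.N := by
        rw [X.mem_N_iff]
        have := commute_conj (g := m⁻¹) (mem_centralizer_singleton_iff.1 ha)
        rwa [show m⁻¹ * (m * X.z * m⁻¹) * m⁻¹⁻¹ = X.z by group, inv_inv] at this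
      have := mul_mem (mul_mem hm (hNM ha')) (inv_mem hm)
      rwa [show m * (m⁻¹ * a * m) * m⁻¹ = a by group] at this
    · obtain ⟨m, hm, rfl⟩ := hall t htM ht
      obtain ⟨n, hn, rfl⟩ := hall s hsM hs
      exact ⟨n * m⁻¹, mul_mem hn (inv_mem hm), by group⟩
  have hrank : Cfsg.PRankAtLeast 2 2 G := by
    set y := g * X.z * g⁻¹ with hy
    have hcomm : ∀ a ∈ ({X.z, y} : Set G), ∀ b ∈ ({X.z, y} : Set G), a * b = b * a := by
      intro a ha b hb
      simp only [Set.mem_insert_iff, Set.mem_singleton_iff] at ha hb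
      rcases ha with rfl | rfl <;> rcases hb with rfl | rfl
      · rfl
      · exact hg.1.symm.eq
      · exact hg.1.eq
      · rfl
    haveI hc : IsMulCommutative (closure ({X.z, y} : Set G)) := Subgroup.isMulCommutative_closure hcomm
    refine ⟨closure {X.z, y}, hc, fun a ha => ?_, ?_⟩
    · induction ha using closure_induction with
      | mem a ha =>
        simp only [Set.mem_insert_iff, Set.mem_singleton_iff] at ha
        rcases ha with rfl | rfl
        · rw [pow_two, X.zsq]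
        · rw [hy, conj_pow, pow_two, X.zsq, mul_one, mul_inv_cancel]
      | one => exact one_pow 2
      | mul a b ha hb iha ihb =>
        have hab : Commute a b := congrArg Subtype.val
          (mul_comm' (⟨a, ha⟩ : closure ({X.z, y} : Set G)) ⟨b, hb⟩)
        rw [hab.mul_pow, iha, ihb, one_mul]
      | inv a ha iha => rw [inv_pow, iha, inv_one]
    · have hy1 : y ≠ 1 := fun e => X.zne (conj_eq_one_iff.1 e)
      have hz : X.z ∈ closure ({X.z, y} : Set G) := subset_closure (by simp)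
      have hyc : y ∈ closure ({X.z, y} : Set G) := subset_closure (by simp)
      have hzy : X.z * y ≠ 1 := fun e => hg.2 ((eq_inv_of_mul_eq_one_right e).trans (inv_eq_of_mul_eq_one_left X.zsq))
      classical
      let T : Finset ↥(closure ({X.z, y} : Set G)) := {1, ⟨_, hz⟩, ⟨_, hyc⟩, ⟨_, mul_mem hz hyc⟩}
      have hT : T.card = 4 := by
        rw [Finset.card_insert_of_notMem, Finset.card_insert_of_notMem, Finset.card_insert_of_notMem,
          Finset.card_singleton]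
        all_goals simp only [Finset.mem_insert, Finset.mem_singleton, Subtype.ext_iff, not_or, OneMemClass.coe_one]
        · intro e; exact X.zne (mul_eq_right.1 e.symm)
        · exact ⟨fun e => hg.2 e.symm, fun e => hy1 (mul_eq_left.1 e.symm)⟩
        · exact ⟨fun e => X.zne e.symm, fun e => hy1 e.symm, fun e => hzy e.symm⟩
      haveI := Fintype.ofFinite ↥(closure ({X.z, y} : Set G))
      rw [Nat.card_eq_fintype_card]
      exact (show 2 ^ 2 ≤ T.card by rw [hT]; norm_num).trans (Finset.card_le_univ T)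
  haveI : Group.IsSolvable ↥M := Cfsg.Agent.S2903.result hrank M (Cfsg.Lib.BenderSE.CritDep.spe_of_se hse)
  -- `L` is perfect and non-trivial
  haveI : Group.IsSolvable ↥X.L := solvable_of_solvable_injective
    (f := Subgroup.inclusion (fun a ha => hNM (X.L_le ha))) (Subgroup.inclusion_injective _)
  haveI : Group.IsPerfect ↥X.L := X.std.1.1
  haveI : Nontrivial ↥X.L := ⟨⟨⟨X.z, X.zL⟩, 1, fun e => X.zne (congrArg Subtype.val e)⟩⟩
  exact Group.IsPerfect.not_isSolvable (G := ↥X.L) inferInstance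

include hna in
theorem N_eq_L : X.N = X.L := by
  refine le_antisymm (fun a ha => ?_) fun a ha => X.L_le ha
  obtain ⟨w, hw, hew⟩ := X.exists_lift (X.ψ a) (X.all_even hna ha)
  have hk : w⁻¹ * a ∈ X.K := (X.ψ_eq_one (mul_mem (inv_mem (X.L_le hw)) ha)).1 (by
    rw [X.ψ_mul (inv_mem (X.L_le hw)) ha, X.ψ_inv (X.L_le hw), hew, inv_mul_cancel])
  have hU := X.U_eq_bot hna
  rcases X.K_cases hna hk with e | e <;> rw [hU, mem_bot] at e
  · rw [← inv_mul_eq_one.1 e]; exact hw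
  · rw [mul_eq_one_iff_eq_inv, inv_mul_eq_iff_eq_mul] at e
    rw [e]
    exact mul_mem hw (inv_mem X.zL)

end Ctx

theorem main [IsSimpleGroup G] (hna : ¬ IsMulCommutative G) (L : Subgroup G) (hL : Cfsg.IsStandardSubgroup L)
    (hLX : Cfsg.IsNonsplitDoubleCover ↥L ↥(alternatingGroup (Fin 8))) : Nonempty (G ≃* Cfsg.Spor.McL) := by
  obtain ⟨X, rfl⟩ := exists_ctx L hL hLX
  have hcov : Cfsg.IsNonsplitDoubleCover ↥(centralizer ({X.z} : Set G)) ↥(alternatingGroup (Fin 8)) := by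
    have e : centralizer ({X.z} : Set G) = X.L := X.N_eq_L hna
    rw [e]
    exact hLX
  rcases Cfsg.Lib.McLRecog.main X.z X.orderOf_z hcov with h | h
  · exfalso
    rw [X.oddCore_bot, sup_bot_eq] at h
    exact X.z_not_central hna (mem_center_iff.2 fun g => by
      have hg : g ∈ centralizer ({X.z} : Set G) := h ▸ mem_top g
      exact mem_centralizer_singleton_iff.1 hg)
  · exact h

end Cfsg.Lib.StdAltEight
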