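import Mathlib

/-!
Facts about involutions of the symmetric group of degree eight, used for standard subgroups that are double covers
of the alternating group of degree eight.
-/

set_option autoImplicit false

namespace Cfsg.Lib.StdAltEight

open Equiv Subgroup

/-- The permutations of eight points. -/
abbrev P8 : Type := Perm (Fin 8)

/-- A transposition. -/
def r1 : P8 := swap 0 1
/-- A double transposition. -/
def r2 : P8 := swap 0 1 * swap 2 3
/-- A product of three transpositions. -/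
def r3 : P8 := swap 0 1 * swap 2 3 * swap 4 5
/-- A fixed-point-free involution. -/
def r4 : P8 := swap 0 1 * swap 2 3 * swap 4 5 * swap 6 7

theorem eq_of_all {σ τ : P8} (h : ∀ i, σ i = τ i) : σ = τ := Perm.ext h

theorem cycleType_r1 : r1.cycleType = Multiset.replicate 1 2 :=
  (Perm.IsSwap.isCycle ⟨0, 1, by decide, rfl⟩).cycleType.trans (by decide)

theorem disjoint_of {σ τ : P8} (h : ∀ i, σ i = i ∨ τ i = i) : σ.Disjoint τ := h

theorem cycleType_swap {i j : Fin 8} (h : i ≠ j) : (swap i j : P8).cycleType = {2} :=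
  (Perm.IsSwap.isCycle ⟨i, j, h, rfl⟩).cycleType.trans (by rw [Perm.support_swap h, Finset.card_pair h])

theorem cycleType_r2 : r2.cycleType = Multiset.replicate 2 2 := by
  rw [r2, Perm.Disjoint.cycleType_mul (disjoint_of (by decide)), cycleType_swap (by decide), cycleType_swap (by decide)]
  rfl

theorem cycleType_r3 : r3.cycleType = Multiset.replicate 3 2 := by
  rw [r3, Perm.Disjoint.cycleType_mul (disjoint_of (by decide)), ← r2, cycleType_r2, cycleType_swap (by decide)]
  rfl

theorem cycleType_r4 : r4.cycleType = Multiset.replicate 4 2 := by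
  rw [r4, Perm.Disjoint.cycleType_mul (disjoint_of (by decide)), ← r3, cycleType_r3, cycleType_swap (by decide)]
  rfl

/-- Every involution is conjugate to one of the four standard ones. -/
theorem invol_cases {y : P8} (hy : y * y = 1) (hy1 : y ≠ 1) :
    IsConj r1 y ∨ IsConj r2 y ∨ IsConj r3 y ∨ IsConj r4 y := by
  have h2 : ∀ n ∈ y.cycleType, n = 2 := fun n hn => by
    have hd : n ∣ 2 := (Perm.dvd_of_mem_cycleType hn).trans (orderOf_dvd_of_pow_eq_one (by rw [pow_two, hy]))
    have := Perm.two_le_of_mem_cycleType hn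
    have := Nat.le_of_dvd (by norm_num) hd
    omega
  have hr := Multiset.eq_replicate_card.2 h2
  have hs : y.cycleType.sum ≤ 8 := (Perm.sum_cycleType y) ▸ (Finset.card_le_univ _).trans (by simp)
  rw [hr, Multiset.sum_replicate, smul_eq_mul] at hs
  have h0 : y.cycleType.card ≠ 0 := fun h => hy1 (Perm.cycleType_eq_zero.1 (Multiset.card_eq_zero.1 h))
  simp only [Perm.isConj_iff_cycleType_eq, cycleType_r1, cycleType_r2, cycleType_r3, cycleType_r4]
  rw [hr]
  generalize y.cycleType.card = k at hs h0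
  have hk : k = 1 ∨ k = 2 ∨ k = 3 ∨ k = 4 := by omega
  rcases hk with rfl | rfl | rfl | rfl <;> tauto

theorem sign_of_odd_order {w : P8} {n : ℕ} (hn : Odd n) (hw : w ^ n = 1) : Perm.sign w = 1 := by
  have h : Perm.sign w ^ n = 1 := by rw [← map_pow, hw, map_one]
  rcases Int.units_eq_one_or (Perm.sign w) with e | e
  · exact e
  · rw [e, hn.neg_one_pow] at h
    exact absurd h (by decide)

theorem sign_r1 : Perm.sign r1 = -1 := by decide
theorem sign_r2 : Perm.sign r2 = 1 := by decide
theorem sign_r3 : Perm.sign r3 = -1 := by decide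
theorem sign_r4 : Perm.sign r4 = 1 := by decide

theorem sign_eq_of_isConj {a b : P8} (h : IsConj a b) : Perm.sign a = Perm.sign b := by
  obtain ⟨c, rfl⟩ := isConj_iff.1 h
  rw [map_mul, map_mul, map_inv, mul_right_comm, mul_inv_cancel, one_mul]

/-- An even involution has type `2^2` or `2^4`. -/
theorem even_invol_cases {y : P8} (hy : y * y = 1) (hy1 : y ≠ 1) (he : Perm.sign y = 1) :
    IsConj r2 y ∨ IsConj r4 y := by
  rcases invol_cases hy hy1 with h | h | h | h
  · exact absurd ((sign_eq_of_isConj h).trans he) (by rw [sign_r1]; decide)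
  · exact Or.inl h
  · exact absurd ((sign_eq_of_isConj h).trans he) (by rw [sign_r3]; decide)
  · exact Or.inr h

theorem not_isConj_r2_r4 {y : P8} (h2 : IsConj r2 y) (h4 : IsConj r4 y) : False := by
  have := (Perm.isConj_iff_cycleType_eq.1 (h2.trans h4.symm))
  rw [cycleType_r2, cycleType_r4] at this
  have := congrArg Multiset.card this
  simp at this

/-! ### Two elements of order three with product a double transposition -/

/-- A block three-cycle. -/
def a3 : P8 := swap 0 2 * swap 2 4 * (swap 1 3 * swap 3 5)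
/-- A second block three-cycle. -/
def b3 : P8 := r2 * a3⁻¹ * r2
/-- A second block three-cycle on the last three blocks. -/
def c3 : P8 := swap 2 4 * swap 4 6 * (swap 3 5 * swap 5 7)
/-- A three-cycle. -/
def a1 : P8 := swap 4 5 * swap 5 6
/-- A three-cycle. -/
def b1 : P8 := swap 4 5 * swap 5 7

theorem a3_apply : (a3 : Fin 8 → Fin 8) = a3 := rfl

theorem facts_a1 : a1 * a1 * a1 = 1 ∧ b1 * b1 * b1 = 1 ∧ a1 * r1 = r1 * a1 ∧ b1 * r1 = r1 * b1 ∧
    a1 * r2 = r2 * a1 ∧ b1 * r2 = r2 * b1 := by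
  refine ⟨?_, ?_, ?_, ?_, ?_, ?_⟩ <;> exact eq_of_all (by decide)

theorem facts_a3 : a3 * a3 * a3 = 1 ∧ c3 * c3 * c3 = 1 ∧ a3 * r3 = r3 * a3 ∧ b3 * r3 = r3 * b3 ∧
    a3 * r4 = r4 * a3 ∧ b3 * r4 = r4 * b3 ∧ b3 * b3 * b3 = 1 ∧ c3 * r4 = r4 * c3 := by
  refine ⟨?_, ?_, ?_, ?_, ?_, ?_, ?_, ?_⟩ <;> exact eq_of_all (by decide)

/-- A double transposition, as the product of the two three-cycles. -/
theorem isConj_a1b1 : IsConj r2 (a1 * b1) :=
  isConj_iff.2 ⟨swap 0 4 * swap 1 6 * swap 2 5 * swap 3 7, eq_of_all (by decide)⟩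

theorem a3b3_eq : a3 * b3 = swap 0 1 * swap 4 5 ∨ a3 * b3 = swap 2 3 * swap 4 5 := by
  first
    | exact Or.inl (eq_of_all (by decide))
    | exact Or.inr (eq_of_all (by decide))

theorem isConj_a3b3 : IsConj r2 (a3 * b3) := by
  rcases a3b3_eq with h | h <;> rw [h]
  · exact isConj_iff.2 ⟨swap 2 4 * swap 3 5, eq_of_all (by decide)⟩
  · exact isConj_iff.2 ⟨swap 0 4 * swap 1 5, eq_of_all (by decide)⟩

theorem exists_pair {y : P8} (hy : y * y = 1) (hy1 : y ≠ 1) :
    ∃ a b : P8, a ^ 3 = 1 ∧ b ^ 3 = 1 ∧ Commute a y ∧ Commute b y ∧ IsConj r2 (a * b) := by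
  obtain ⟨ha, hb, h11, h12, h21, h22⟩ := facts_a1
  obtain ⟨ha', -, h31, h32, h41, h42, hb', -⟩ := facts_a3
  have key : ∀ r a b : P8, IsConj r y → a * a * a = 1 → b * b * b = 1 → a * r = r * a → b * r = r * b →
      IsConj r2 (a * b) →
      ∃ a b : P8, a ^ 3 = 1 ∧ b ^ 3 = 1 ∧ Commute a y ∧ Commute b y ∧ IsConj r2 (a * b) := by
    intro r a b hr ha hb hra hrb hab
    obtain ⟨c, rfl⟩ := isConj_iff.1 hr
    have h3 : ∀ {x : P8}, x * x * x = 1 → (c * x * c⁻¹) ^ 3 = 1 := fun {x} hx => by
      rw [conj_pow, pow_succ, pow_two, hx, mul_one, mul_inv_cancel]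
    refine ⟨c * a * c⁻¹, c * b * c⁻¹, h3 ha, h3 hb, ?_, ?_, hab.trans (isConj_iff.2 ⟨c, by group⟩)⟩
    · exact (Commute.conj_iff c).2 hra
    · exact (Commute.conj_iff c).2 hrb
  rcases invol_cases hy hy1 with h | h | h | h
  · exact key r1 a1 b1 h ha hb h11 h12 isConj_a1b1
  · exact key r2 a1 b1 h ha hb h21 h22 isConj_a1b1
  · exact key r3 a3 b3 h ha' hb' h31 h32 isConj_a3b3
  · exact key r4 a3 b3 h ha' hb' h41 h42 isConj_a3b3

/-! ### Which involutions lie among the products of odd-order elements of their centralisers -/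

theorem aux_fix (a b : Fin 8) (ha : a.val < 4) (hb : b.val < 4) (h1 : b ≠ a) (h2 : b ≠ r2 a) :
    (fun i : Fin 8 => if i = 0 then a else if i = 1 then r2 a else if i = 2 then b else r2 b)^[4] 0 = 0 := by
  revert a b
  decide

theorem fix_zero_of_commute {w : P8} {n : ℕ} (hn : Odd n) (hw : w ^ n = 1) (hc : w * r2 = r2 * w) : w 0 = 0 := by
  have hcc : ∀ i, w (r2 i) = r2 (w i) := fun i => by
    have := congrArg (fun p : P8 => p i) hc
    simpa [Perm.mul_apply] using this
  have hmove : ∀ i : Fin 8, i.val < 4 ↔ r2 i ≠ i := by decide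
  have hfour : ∀ i : Fin 8, i.val < 4 → (w i).val < 4 := fun i hi => by
    rw [hmove] at hi ⊢
    rw [← hcc]
    exact fun h => hi (w.injective h)
  set a := w 0 with ha
  set b := w 2 with hb
  have h1 : b ≠ a := fun h => absurd (w.injective h) (by decide)
  have h2 : b ≠ r2 a := fun h => by
    have h' : w 2 = r2 (w 0) := h
    rw [← hcc] at h'
    exact absurd (w.injective h') (by decide)
  let f : Fin 8 → Fin 8 := fun i => if i = 0 then a else if i = 1 then r2 a else if i = 2 then b else r2 b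
  have hf : ∀ i : Fin 8, i.val < 4 → w i = f i := by
    intro i hi
    have h01 : r2 0 = 1 := by decide
    have h23 : r2 2 = 3 := by decide
    have hi' : i = 0 ∨ i = 1 ∨ i = 2 ∨ i = 3 := by omega
    rcases hi' with rfl | rfl | rfl | rfl
    · simp [f, ha]
    · rw [← h01, hcc, ← ha]; simp [f, h01]
    · simp [f, hb]
    · rw [← h23, hcc, ← hb]; simp [f, h23]
  have hit : ∀ k : ℕ, ((w ^ k) 0).val < 4 ∧ (w ^ k) 0 = f^[k] 0 := by
    intro k
    induction k with
    | zero => simp
    | succ k ih =>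
      rw [pow_succ', Perm.mul_apply, Function.iterate_succ_apply', ← ih.2]
      exact ⟨hfour _ ih.1, hf _ ih.1⟩
  have h4 : (w ^ 4) 0 = 0 := (hit 4).2.trans (aux_fix a b (hfour 0 (by decide)) (hfour 2 (by decide)) h1 h2)
  have hcop : Nat.Coprime 4 n := by
    rw [show (4 : ℕ) = 2 ^ 2 by norm_num]
    exact Nat.Coprime.pow_left 2 (Nat.coprime_two_left.2 hn)
  have hmem : w ∈ zpowers (w ^ 4) := mem_zpowers_pow_iff.2 (hcop.coprime_dvd_right (orderOf_dvd_of_pow_eq_one hw))
  obtain ⟨k, hk⟩ := mem_zpowers_iff.1 hmem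
  show w 0 = 0
  rw [← hk]
  exact Function.IsFixedPt.perm_zpow (e := w ^ 4) h4 k

/-- An involution which is a product of odd-order elements commuting with it is fixed-point-free. -/
theorem isConj_r4_of_mem_closure {u : P8} (hu : u * u = 1) (hu1 : u ≠ 1)
    (hm : u ∈ closure {w : P8 | Commute w u ∧ ∃ n, Odd n ∧ w ^ n = 1}) : IsConj r4 u := by
  have hsign : Perm.sign u = 1 := by
    clear hu hu1
    revert hm
    generalize hS : closure {w : P8 | Commute w u ∧ ∃ n, Odd n ∧ w ^ n = 1} = S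
    intro hm
    suffices ∀ x ∈ closure {w : P8 | Commute w u ∧ ∃ n, Odd n ∧ w ^ n = 1}, Perm.sign x = 1 from
      this u (hS ▸ hm)
    intro x hx
    clear hm hS
    induction hx using closure_induction with
    | mem x hx => obtain ⟨n, hn, hx⟩ := hx.2; exact sign_of_odd_order hn hx
    | one => exact map_one _
    | mul x y _ _ hx hy => rw [map_mul, hx, hy, one_mul]
    | inv x _ hx => rw [map_inv, hx, inv_one]
  rcases even_invol_cases hu hu1 hsign with h | h
  · exfalso
    obtain ⟨c, rfl⟩ := isConj_iff.1 h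
    have hfix : ∀ x ∈ closure {w : P8 | Commute w (c * r2 * c⁻¹) ∧ ∃ n, Odd n ∧ w ^ n = 1},
        x ∈ MulAction.stabilizer P8 (c 0) := by
      refine fun x hx => (closure_le _).2 ?_ hx
      rintro w ⟨hw, n, hn, hwn⟩
      have hw' : Commute (c⁻¹ * w * c) r2 := by
        have := (Commute.conj_iff c⁻¹).2 hw
        simpa [mul_assoc] using this
      have h0 := fix_zero_of_commute hn (w := c⁻¹ * w * c)
        (by rw [show c⁻¹ * w * c = c⁻¹ * w * c⁻¹⁻¹ by rw [inv_inv], conj_pow, hwn]; group) hw'.eq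
      rw [SetLike.mem_coe, MulAction.mem_stabilizer_iff, Perm.smul_def]
      have := congrArg c h0
      simpa [Perm.mul_apply] using this
    have h' := hfix _ hm
    rw [MulAction.mem_stabilizer_iff, Perm.smul_def] at h'
    simp only [Perm.mul_apply, Perm.inv_def, Equiv.symm_apply_apply] at h'
    exact absurd (c.injective h') (by decide)
  · exact h

/-! ### The fixed-point-free involution -/

theorem centralizer_pair {g : P8} (ha : g * a3 = a3 * g) (hc : g * c3 = c3 * g) : g = 1 ∨ g = r4 := by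
  have hga : ∀ i, g (a3 i) = a3 (g i) := fun i => by simpa using congrArg (fun p : P8 => p i) ha
  have hgc : ∀ i, g (c3 i) = c3 (g i) := fun i => by simpa using congrArg (fun p : P8 => p i) hc
  have hfix : ∀ i : Fin 8, c3 i = i → i = 0 ∨ i = 1 := by decide
  have h0 : g 0 = 0 ∨ g 0 = 1 := hfix _ ((hgc 0).symm.trans (congrArg g (by decide)))
  have h1 : g 1 = 0 ∨ g 1 = 1 := hfix _ ((hgc 1).symm.trans (congrArg g (by decide)))
  have hne : g 0 ≠ g 1 := fun h => absurd (g.injective h) (by decide)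
  have h2 : g 2 = a3 (g 0) := by rw [← hga]; exact congrArg g (by decide)
  have h3 : g 3 = a3 (g 1) := by rw [← hga]; exact congrArg g (by decide)
  have h4 : g 4 = c3 (g 2) := by rw [← hgc]; exact congrArg g (by decide)
  have h5 : g 5 = c3 (g 3) := by rw [← hgc]; exact congrArg g (by decide)
  have h6 : g 6 = c3 (g 4) := by rw [← hgc]; exact congrArg g (by decide)
  have h7 : g 7 = c3 (g 5) := by rw [← hgc]; exact congrArg g (by decide)
  rw [h2] at h4; rw [h3] at h5; rw [h4] at h6; rw [h5] at h7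
  have hall : ∀ i : Fin 8, i = 0 ∨ i = 1 ∨ i = 2 ∨ i = 3 ∨ i = 4 ∨ i = 5 ∨ i = 6 ∨ i = 7 := by decide
  rcases h0 with e0 | e0 <;> rcases h1 with e1 | e1
  · exact absurd (e0.trans e1.symm) hne
  · refine Or.inl (eq_of_all fun i => ?_)
    rw [e0] at h2 h4 h6; rw [e1] at h3 h5 h7
    rcases hall i with rfl | rfl | rfl | rfl | rfl | rfl | rfl | rfl <;>
      first | (rw [e0]; decide) | (rw [e1]; decide) | (rw [h2]; decide) | (rw [h3]; decide) | (rw [h4]; decide) |
        (rw [h5]; decide) | (rw [h6]; decide) | (rw [h7]; decide)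
  · refine Or.inr (eq_of_all fun i => ?_)
    rw [e0] at h2 h4 h6; rw [e1] at h3 h5 h7
    rcases hall i with rfl | rfl | rfl | rfl | rfl | rfl | rfl | rfl <;>
      first | (rw [e0]; decide) | (rw [e1]; decide) | (rw [h2]; decide) | (rw [h3]; decide) | (rw [h4]; decide) |
        (rw [h5]; decide) | (rw [h6]; decide) | (rw [h7]; decide)
  · exact absurd (e0.trans e1.symm) hne

theorem not_nine_dvd_centralizer {u : P8} (hu : IsConj r4 u) :
    ¬ 9 ∣ Nat.card (Subgroup.centralizer ({u} : Set P8)) := by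
  rw [Equiv.Perm.nat_card_centralizer, ← Perm.isConj_iff_cycleType_eq.1 hu, cycleType_r4]
  simp only [Fintype.card_fin, Multiset.sum_replicate, Multiset.prod_replicate, smul_eq_mul]
  rw [Multiset.toFinset_replicate, if_neg (by norm_num), Finset.prod_singleton, Multiset.count_replicate_self]
  decide

/-- Two elements of order three centralising a fixed-point-free involution `u`, with centraliser `⟨u⟩`. -/
theorem exists_gens {u : P8} (hu : IsConj r4 u) : ∃ a a' : P8, a ^ 3 = 1 ∧ a' ^ 3 = 1 ∧ Commute a u ∧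
    Commute a' u ∧ ∀ g, Commute g a → Commute g a' → g = 1 ∨ g = u := by
  obtain ⟨c, rfl⟩ := isConj_iff.1 hu
  obtain ⟨ha, hc, -, -, h41, -, -, hc4⟩ := facts_a3
  refine ⟨c * a3 * c⁻¹, c * c3 * c⁻¹, by rw [conj_pow, pow_succ, pow_two, ha]; group,
    by rw [conj_pow, pow_succ, pow_two, hc]; group, (Commute.conj_iff c).2 h41, (Commute.conj_iff c).2 hc4,
    fun g h h' => ?_⟩
  have key : ∀ {x : P8}, Commute g (c * x * c⁻¹) → (c⁻¹ * g * c) * x = x * (c⁻¹ * g * c) := fun {x} hx => by
    have := ((Commute.conj_iff c⁻¹).2 hx).eq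
    simpa [mul_assoc] using this
  rcases centralizer_pair (key h) (key h') with e | e
  · left
    calc g = c * (c⁻¹ * g * c) * c⁻¹ := by group
      _ = 1 := by rw [e]; group
  · right
    calc g = c * (c⁻¹ * g * c) * c⁻¹ := by group
      _ = _ := by rw [e]

/-- A double transposition commuting with a fixed-point-free involution with fixed-point-free product. -/
theorem exists_twist {u : P8} (hu : IsConj r4 u) :
    ∃ d : P8, IsConj r2 d ∧ Commute d u ∧ IsConj r4 (d * u) := by
  obtain ⟨c, rfl⟩ := isConj_iff.1 hu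
  let d0 : P8 := swap 0 2 * swap 1 3
  have h1 : IsConj r2 d0 := isConj_iff.2 ⟨swap 1 2, eq_of_all (by decide)⟩
  have h2 : d0 * r4 = r4 * d0 := eq_of_all (by decide)
  have h3 : IsConj r4 (d0 * r4) := isConj_iff.2 ⟨swap 1 3, eq_of_all (by decide)⟩
  exact ⟨c * d0 * c⁻¹, h1.trans (isConj_iff.2 ⟨c, rfl⟩), (Commute.conj_iff c).2 h2,
    h3.trans (isConj_iff.2 ⟨c, by group⟩)⟩

/-- Conjugate involutions of type `2^2` or `2^4` are conjugate by an even permutation. -/
theorem even_conj {r y : P8} (hr : r = r2 ∨ r = r4) (h : IsConj r y) :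
    ∃ c : P8, Perm.sign c = 1 ∧ c * r * c⁻¹ = y := by
  obtain ⟨c, rfl⟩ := isConj_iff.1 h
  rcases Int.units_eq_one_or (Perm.sign c) with hc | hc
  · exact ⟨c, hc, rfl⟩
  · have he : swap 0 1 * r = r * swap 0 1 := by rcases hr with rfl | rfl <;> exact eq_of_all (by decide)
    refine ⟨c * swap 0 1, by rw [map_mul, hc, Perm.sign_swap (by decide)]; decide, ?_⟩
    rw [mul_inv_rev, swap_inv, show c * swap 0 1 * r * (swap 0 1 * c⁻¹) = c * (swap 0 1 * r) * swap 0 1 * c⁻¹ by group,
      he, show c * (r * swap 0 1) * swap 0 1 * c⁻¹ = c * r * (swap 0 1 * swap 0 1) * c⁻¹ by group, swap_mul_self,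
      mul_one]

end Cfsg.Lib.StdAltEight
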