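import Cfsg.Agent.Components.StdAltEight.Perms
import Cfsg.Agent.McLRecog.Cover
import Cfsg.Agent.S2119
import Cfsg.Prelude.Def_Local

/-!
The setting for a standard subgroup `L` which is a double cover of the alternating group of degree eight: the
centraliser `N` of the central involution acts on eight points, with kernel `C_G(L)`.
-/

set_option autoImplicit false
set_option linter.unusedSectionVars false

namespace Cfsg.Lib.StdAltEight

open Subgroup Equiv
open Cfsg.Lib.Schur.Alt (cyc)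

universe u

variable {G : Type u} [Group G] [Finite G]

/-- The automorphism of a quotient by the centre induced by an automorphism. -/
noncomputable def quotAut {Γ : Type u} [Group Γ] : MulAut Γ →* MulAut (Γ ⧸ center Γ) where
  toFun α := QuotientGroup.congr (center Γ) (center Γ) α (Subgroup.characteristic_iff_map_eq.1 inferInstance α)
  map_one' := by
    ext x
    induction x using QuotientGroup.induction_on
    rfl
  map_mul' α β := by
    ext x
    induction x using QuotientGroup.induction_on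
    rfl

/-- Transport of automorphisms along an isomorphism. -/
def transAut {A B : Type*} [Group A] [Group B] (q : A ≃* B) : MulAut A →* MulAut B where
  toFun α := q.symm.trans (α.trans q)
  map_one' := by ext x; simp
  map_mul' α β := by ext x; simp

/-- Data: the standard subgroup, its central involution, and the action of `C_G(z)` on eight points. -/
structure Ctx (G : Type u) [Group G] where
  /-- The standard subgroup. -/
  L : Subgroup G
  std : Cfsg.IsStandardSubgroup L
  /-- The central involution. -/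
  z : G
  zsq : z * z = 1
  zne : z ≠ 1
  zL : z ∈ L
  zcomm : ∀ x ∈ L, x * z = z * x
  centre : ∀ x ∈ L, x ∈ centralizer (L : Set G) → x = 1 ∨ x = z
  /-- The action. -/
  φ : ↥(centralizer ({z} : Set G)) →* P8
  hker : ∀ x, φ x = 1 ↔ (x : G) ∈ centralizer (L : Set G)
  surj : ∀ p : P8, Perm.sign p = 1 → ∃ x : ↥(centralizer ({z} : Set G)), (x : G) ∈ L ∧ φ x = p
  even : ∀ x : ↥(centralizer ({z} : Set G)), (x : G) ∈ L → Perm.sign (φ x) = 1
  dbl : ∀ x : ↥(centralizer ({z} : Set G)), (x : G) ∈ L → IsConj r2 (φ x) → (x : G) * x = z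

theorem std_centralizer_eq {L : Subgroup G} (hL : Cfsg.IsStandardSubgroup L) {z : G} (hz : z * z = 1) (hz1 : z ≠ 1)
    (hzL : z ∈ L) (hzK : z ∈ centralizer (L : Set G)) (hc : ∀ x ∈ L, x ∈ centralizer (L : Set G) → x = 1 ∨ x = z) :
    centralizer ({z} : Set G) = normalizer (L : Set G) := by
  obtain ⟨-, ⟨-, hte⟩, -, hnn⟩ := hL
  refine le_antisymm (fun g hg => ?_) (fun g hg => ?_)
  · rw [hnn]
    by_contra hgn
    have hgz : g * z * g⁻¹ = z := by rw [mem_centralizer_singleton_iff.1 hg, mul_inv_cancel_right]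
    have hmem : z ∈ centralizer (L : Set G) ⊓ (centralizer (L : Set G)).map (MulAut.conj g).toMonoidHom :=
      ⟨hzK, ⟨z, hzK, by simpa using hgz⟩⟩
    have ho : orderOf z = 2 := orderOf_eq_prime (by rw [pow_two, hz]) hz1
    have h := orderOf_dvd_natCard (⟨z, hmem⟩ :
      ↥(centralizer (L : Set G) ⊓ (centralizer (L : Set G)).map (MulAut.conj g).toMonoidHom))
    rw [Subgroup.orderOf_mk, ho] at h
    exact absurd (hte g hgn) (Nat.not_odd_iff_even.2 (even_iff_two_dvd.2 h))
  · rw [mem_centralizer_singleton_iff]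
    have h1 : g * z * g⁻¹ ∈ L := (mem_normalizer_iff.1 hg z).1 hzL
    have h2 : g * z * g⁻¹ ∈ centralizer (L : Set G) :=
      (mem_normalizer_iff.1 (hnn ▸ hg : g ∈ normalizer (centralizer (L : Set G) : Set G)) z).1 hzK
    rcases hc _ h1 h2 with e | e
    · exact absurd (conj_eq_one_iff.1 e) hz1
    · rw [mul_inv_eq_iff_eq_mul] at e
      exact e

theorem exists_ctx (L : Subgroup G) (hL : Cfsg.IsStandardSubgroup L)
    (hLX : Cfsg.IsNonsplitDoubleCover ↥L ↥(alternatingGroup (Fin 8))) : ∃ X : Ctx G, X.L = L := by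
  obtain ⟨ρ₀, z0, W, hW⟩ := Cfsg.Lib.McLRecog.Cover.exists_lifts hLX
  obtain ⟨hc2, ⟨q₀⟩, hsplit⟩ := id hLX
  haveI : Group.IsPerfect ↥L := hL.1.1
  have hmem8 : ∀ x, ρ₀ x ∈ alternatingGroup (Fin 8) := fun x => by
    have hle : closure (W '' Set.Iio 6) ≤ (alternatingGroup (Fin 8)).comap ρ₀ := by
      rw [closure_le]
      rintro _ ⟨k, hk, rfl⟩
      show ρ₀ (W k) ∈ alternatingGroup (Fin 8)
      rw [hW.img k hk]
      exact Cfsg.Lib.Schur.Alt.cyc_mem _ _ _ (by decide) (Cfsg.Lib.McLRecog.Cover.pt_ne hk).1.symm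
    exact hle (hW.gen x)
  let π : ↥L →* ↥(alternatingGroup (Fin 8)) := ρ₀.codRestrict _ hmem8
  -- the centre
  have hz0c : z0 ∈ center ↥L := mem_center_iff.2 fun g => (hW.center g)
  have hz0o : z0 ^ 2 = 1 := by
    have h := orderOf_dvd_natCard (⟨z0, hz0c⟩ : center ↥L)
    rw [hc2, Subgroup.orderOf_mk] at h
    exact orderOf_dvd_iff_pow_eq_one.1 h
  have hcen : ∀ x : ↥L, x ∈ center ↥L → x = 1 ∨ x = z0 := fun x hx => by
    obtain ⟨⟨u, hu⟩, ⟨v, hv⟩, hne, huniv⟩ := Nat.card_eq_two_iff.1 hc2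
    have hall : ∀ a : center ↥L, a = ⟨u, hu⟩ ∨ a = ⟨v, hv⟩ := fun a => by
      have : a ∈ ({⟨u, hu⟩, ⟨v, hv⟩} : Set (center ↥L)) := huniv ▸ Set.mem_univ _
      simpa using this
    have hne0 : (⟨z0, hz0c⟩ : center ↥L) ≠ 1 := fun h => hW.ne (congrArg Subtype.val h)
    rcases hall ⟨x, hx⟩ with a | a <;> rcases hall 1 with b | b <;> rcases hall ⟨z0, hz0c⟩ with c | c <;>
      first
        | exact Or.inl (congrArg Subtype.val (a.trans b.symm))
        | exact Or.inr (congrArg Subtype.val (a.trans c.symm))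
        | exact absurd (c.trans b.symm) hne0
  have hker0 : ∀ x, π x = 1 ↔ x = 1 ∨ x = z0 := fun x => by
    rw [← hW.ker]
    exact ⟨fun h => congrArg Subtype.val h, fun h => Subtype.ext h⟩
  have hπker : ∀ x, π x = 1 ↔ x ∈ center ↥L := fun x => by
    rw [hker0]
    exact ⟨fun h => h.elim (fun e => e ▸ one_mem _) (fun e => e ▸ hz0c), hcen x⟩
  have hkereq : π.ker = center ↥L := Subgroup.ext hπker
  have hπsurj : Function.Surjective π := by
    rw [← MonoidHom.range_eq_top]
    refine Subgroup.eq_top_of_card_eq _ ?_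
    rw [← Nat.card_congr q₀.toEquiv, ← Nat.card_congr (QuotientGroup.quotientKerEquivRange π).toEquiv, hkereq]
  let q : (↥L ⧸ center ↥L) ≃* ↥(alternatingGroup (Fin 8)) :=
    MulEquiv.ofBijective (QuotientGroup.lift (center ↥L) π hkereq.ge) ⟨by
      rw [injective_iff_map_eq_one]
      intro a
      induction a using QuotientGroup.induction_on with | _ a => ?_
      intro ha
      rw [QuotientGroup.lift_mk, hπker] at ha
      exact (QuotientGroup.eq_one_iff _).2 ha, fun t => by
      obtain ⟨x, rfl⟩ := hπsurj t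
      exact ⟨(x : ↥L ⧸ center ↥L), rfl⟩⟩
  have hqmk : ∀ x : ↥L, q.symm (π x) = (x : ↥L ⧸ center ↥L) := fun x => q.injective (by
    rw [MulEquiv.apply_symm_apply]; rfl)
  set z : G := (z0 : G) with hzdef
  have zsq : z * z = 1 := by rw [hzdef, ← coe_mul, ← pow_two, hz0o, coe_one]
  have zne : z ≠ 1 := fun h => hW.ne (Subtype.ext h)
  have zcomm : ∀ x ∈ L, x * z = z * x := fun x hx => congrArg Subtype.val (hW.center ⟨x, hx⟩).eq
  have centre : ∀ x ∈ L, x ∈ centralizer (L : Set G) → x = 1 ∨ x = z := fun x hx hc => by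
    rcases hcen ⟨x, hx⟩ (mem_center_iff.2 fun g => Subtype.ext (mem_centralizer_iff.1 hc g g.2)) with e | e
    · exact Or.inl (congrArg Subtype.val e)
    · exact Or.inr (congrArg Subtype.val e)
  have hzK : z ∈ centralizer (L : Set G) := mem_centralizer_iff.2 fun x hx => zcomm x hx
  have hNN := std_centralizer_eq hL zsq zne z0.2 hzK centre
  -- the action
  let e8 : P8 ≃* MulAut ↥(alternatingGroup (Fin 8)) :=
    MulEquiv.ofBijective MulAut.conjNormal (Cfsg.Agent.S2119.result 8 (by norm_num) (by norm_num))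
  let act : ↥(centralizer ({z} : Set G)) →* P8 :=
    e8.symm.toMonoidHom.comp ((transAut q).comp (quotAut.comp
      (L.normalizerMonoidHom.comp (Subgroup.inclusion hNN.le))))
  have hact : ∀ (g : ↥(centralizer ({z} : Set G))) (x : ↥L) (hgx : (g : G) * x * (g : G)⁻¹ ∈ L),
      (π ⟨(g : G) * x * (g : G)⁻¹, hgx⟩ : P8) = act g * π x * (act g)⁻¹ := by
    intro g x hgx
    have h1 : ∀ a, MulAut.conjNormal (act g) a =
        (transAut q (quotAut (L.normalizerMonoidHom (Subgroup.inclusion hNN.le g)))) a := fun a =>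
      DFunLike.congr_fun (e8.apply_symm_apply _) a
    have h2 := congrArg Subtype.val (h1 (π x))
    rw [MulAut.conjNormal_apply] at h2
    rw [h2]
    apply congrArg Subtype.val
    show _ = q (quotAut _ (q.symm (π x)))
    rw [hqmk]
    rfl
  have hLN : ∀ x ∈ L, x ∈ centralizer ({z} : Set G) := fun x hx => mem_centralizer_singleton_iff.2 (zcomm x hx)
  have hinj : ∀ {a b : P8}, (∀ x : ↥L, a * π x * a⁻¹ = b * π x * b⁻¹) → a = b := fun {a b} h => by
    apply e8.injective
    ext t : 1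
    obtain ⟨x, rfl⟩ := hπsurj t
    apply Subtype.ext
    show ((MulAut.conjNormal a (π x) : ↥(alternatingGroup (Fin 8))) : P8) = (MulAut.conjNormal b (π x) : P8)
    rw [MulAut.conjNormal_apply, MulAut.conjNormal_apply, h x]
  have hrestr : ∀ g : ↥(centralizer ({z} : Set G)), ∀ hg : (g : G) ∈ L, act g = π ⟨g, hg⟩ := fun g hg =>
    hinj fun x => by
      rw [← hact g x (mul_mem (mul_mem hg x.2) (inv_mem hg))]
      have e : (⟨(g : G) * x * (g : G)⁻¹, mul_mem (mul_mem hg x.2) (inv_mem hg)⟩ : ↥L) =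
          (⟨g, hg⟩ : ↥L) * x * (⟨g, hg⟩ : ↥L)⁻¹ := rfl
      rw [e, map_mul, map_mul, map_inv]
      rfl
  refine ⟨⟨L, hL, z, zsq, zne, z0.2, zcomm, centre, act, fun g => ⟨fun hg => ?_, fun hg => ?_⟩,
    fun p hp => ?_, fun g hg => ?_, fun g hg hc => ?_⟩, rfl⟩
  · -- the kernel centralises `L`
    have hn : ∀ x : ↥L, (g : G) * x * (g : G)⁻¹ ∈ L := fun x => (mem_normalizer_iff.1 (hNN ▸ g.2 : (g : G) ∈
      normalizer (L : Set G)) x).1 x.2
    have hfix : ∀ x : ↥L, (⟨_, hn x⟩ : ↥L) * x⁻¹ ∈ center ↥L := fun x => by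
      have h := hact g x (hn x)
      rw [hg, one_mul, inv_one, mul_one] at h
      rw [← hπker, map_mul, map_inv, mul_inv_eq_one]
      exact Subtype.ext h
    let f : ↥L →* ↥(center ↥L) :=
      { toFun := fun x => ⟨_, hfix x⟩
        map_one' := Subtype.ext (Subtype.ext (by simp))
        map_mul' := fun a b => by
          apply Subtype.ext
          have hb := mem_center_iff.1 (hfix b) a⁻¹
          show (⟨_, hn (a * b)⟩ : ↥L) * (a * b)⁻¹ = (⟨_, hn a⟩ : ↥L) * a⁻¹ * ((⟨_, hn b⟩ : ↥L) * b⁻¹)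
          rw [mul_assoc _ a⁻¹, hb, mul_inv_rev, show (⟨_, hn (a * b)⟩ : ↥L) = ⟨_, hn a⟩ * ⟨_, hn b⟩ from
            Subtype.ext (by simp [mul_assoc])]
          group }
    have hf : ∀ x, f x = 1 := fun x => by
      have hx : x ∈ commutator ↥L := by rw [Group.IsPerfect.commutator_eq_top]; exact mem_top x
      have hle : commutator ↥L ≤ f.ker := by
        rw [_root_.commutator_def, Subgroup.commutator_le]
        intro a _ b _
        rw [MonoidHom.mem_ker, map_commutatorElement, commutatorElement_eq_one_iff_mul_comm]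
        exact Subtype.ext (mem_center_iff.1 (f b).2 _)
      exact hle hx
    rw [mem_centralizer_iff]
    intro x hx
    have h := congrArg (fun c : center ↥L => ((c : ↥L) : G)) (hf ⟨x, hx⟩)
    simp only [f, MonoidHom.coe_mk, OneHom.coe_mk, coe_mul, coe_inv, coe_one] at h
    rw [mul_inv_eq_one, mul_inv_eq_iff_eq_mul] at h
    exact h.symm
  · apply hinj
    intro x
    have he : (g : G) * x * (g : G)⁻¹ = x := by
      rw [mem_centralizer_iff] at hg
      rw [← hg x x.2, mul_inv_cancel_right]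
    rw [← hact g x (by rw [he]; exact x.2), one_mul, inv_one, mul_one]
    exact congrArg (fun t => (π t : P8)) (Subtype.ext he)
  · obtain ⟨x, hx⟩ := hπsurj ⟨p, Perm.mem_alternatingGroup.2 hp⟩
    exact ⟨⟨x, hLN x x.2⟩, x.2, (hrestr _ x.2).trans (congrArg Subtype.val hx)⟩
  · rw [hrestr g hg]
    exact Perm.mem_alternatingGroup.1 (π _).2
  · -- lifts of double transpositions square to `z`
    rw [hrestr g hg] at hc
    -- some element with double-transposition image squares to `z`
    obtain ⟨x1, hx1, hx1sq⟩ : ∃ x1 : ↥L, IsConj r2 (π x1 : P8) ∧ x1 * x1 = z0 := by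
      have h01 := hW.sq 0 (by norm_num) 1 (by norm_num) (by norm_num)
      refine ⟨W 0 * W 1, ?_, by rw [← pow_two]; exact h01⟩
      show IsConj r2 (ρ₀ (W 0 * W 1))
      rw [map_mul, hW.img 0 (by norm_num), hW.img 1 (by norm_num)]
      exact isConj_iff.2 ⟨swap 1 2, eq_of_all (by decide)⟩
    obtain ⟨c, hc1, hc2'⟩ := even_conj (Or.inl rfl) hx1
    obtain ⟨d, hd1, hd2⟩ := even_conj (Or.inl rfl) hc
    obtain ⟨t, ht⟩ := hπsurj ⟨d * c⁻¹, Perm.mem_alternatingGroup.2 (by rw [map_mul, map_inv, hc1, hd1]; rfl)⟩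
    have heq : π (⟨g, hg⟩ * (t * x1 * t⁻¹)⁻¹) = 1 := by
      apply Subtype.ext
      rw [map_mul, map_inv, map_mul, map_mul, map_inv, ht]
      simp only [coe_mul, coe_inv, coe_one]
      rw [← hd2, ← hc2']
      group
    have hconj : t * x1 * t⁻¹ * (t * x1 * t⁻¹) = z0 := by
      calc t * x1 * t⁻¹ * (t * x1 * t⁻¹) = t * (x1 * x1) * t⁻¹ := by group
        _ = z0 := by rw [hx1sq, (hW.center t).eq, mul_inv_cancel_right]
    have hfin : (⟨g, hg⟩ : ↥L) * ⟨g, hg⟩ = z0 := by
      rcases (hker0 _).1 heq with e | e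
      · rw [mul_inv_eq_one.1 e, hconj]
      · rw [mul_inv_eq_iff_eq_mul.1 e, show z0 * (t * x1 * t⁻¹) * (z0 * (t * x1 * t⁻¹)) =
            (z0 * z0) * (t * x1 * t⁻¹ * (t * x1 * t⁻¹)) by
              rw [mul_assoc z0, ← mul_assoc _ z0, (hW.center _).eq]; group, hconj, ← pow_two, hz0o, one_mul]
    exact congrArg Subtype.val hfin

end Cfsg.Lib.StdAltEight
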